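import Groth.Agent.S14355
import Mathlib

/-!
# Stationary positions of spectral sequences and their abutments
-/

universe w v u

open CategoryTheory CategoryTheory.Limits

namespace Groth.Agent.H6SpSeq

variable {C : Type u} [Category.{v} C] [Abelian C] {r₀ : ℤ}

theorem sc_f_g (E : CohomologicalSpectralSequence C r₀) (k : ℤ) (hk : r₀ ≤ k) (pq : ℤ × ℤ)
    (h1 : (E.page k hk).d (pq - (k, 1 - k)) pq = 0) (h2 : (E.page k hk).d pq (pq + (k, 1 - k)) = 0) :
    ((E.page k hk).sc pq).f = 0 ∧ ((E.page k hk).sc pq).g = 0 := by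
  constructor
  · change (E.page k hk).d _ pq = 0
    rw [show (ComplexShape.up' (⟨k, 1 - k⟩ : ℤ × ℤ)).prev pq = pq - (k, 1 - k) from
      ComplexShape.prev_eq' _ (by simp)]
    exact h1
  · change (E.page k hk).d pq _ = 0
    rw [show (ComplexShape.up' (⟨k, 1 - k⟩ : ℤ × ℤ)).next pq = pq + (k, 1 - k) from
      ComplexShape.next_eq' _ (by simp)]
    exact h2

theorem nonempty_pageIso {E : CohomologicalSpectralSequence C r₀} {pq : ℤ × ℤ} {r : ℤ}
    (h : SpSeq.StationaryAt E pq r) (k : ℤ) (hk : r ≤ k) :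
    Nonempty ((E.page r h.1).X pq ≅ (E.page k (h.1.trans hk)).X pq) := by
  induction k, hk using Int.le_induction with
  | base => exact ⟨Iso.refl _⟩
  | succ k hk ih =>
    obtain ⟨e⟩ := ih
    obtain ⟨h1, h2⟩ := h.2 k (h.1.trans hk) hk
    obtain ⟨hf, hg⟩ := sc_f_g E k _ pq h1 h2
    exact ⟨e ≪≫ (ShortComplex.HomologyData.ofZeros _ hf hg).left.homologyIso.symm ≪≫
      E.iso k (k + 1) pq rfl (h.1.trans hk)⟩

theorem isZero_gr_of_eq {E : CohomologicalSpectralSequence C r₀} {H : ℤ → C} (a : SpSeq.Abutment E H) {m n p : ℤ}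
    (h : m = n) (hz : IsZero (SpSeq.grPiece (a.fil m) (a.anti m) p)) : IsZero ((a.filObj n).gr p) := by
  subst h
  exact hz

theorem arrow_eq_zero_of_eq_bot {X : C} {S : Subobject X} (h : S = ⊥) : S.arrow = 0 := by
  subst h
  exact Subobject.bot_arrow

theorem nonempty_iso_of_singleTerm (E : CohomologicalSpectralSequence C r₀) {H : ℤ → C} (a : SpSeq.Abutment E H)
    (r : ℤ) (hr : r₀ ≤ r) (q : ℤ → ℤ)
    (hdeg : ∀ m q' : ℤ, q' ≠ q m → IsZero ((E.page r hr).X (m - q', q')))
    (n : ℤ) (hdisc : (a.filObj n).IsDiscrete) (hexh : a.IsExhaustive n)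
    (hst : SpSeq.StationaryAt E (n - q n, q n) r) :
    Nonempty (H n ≅ (E.page r hr).X (n - q n, q n)) := by
  let K := a.filObj n
  let p₀ := n - q n
  have hgr : ∀ p, p ≠ p₀ → IsZero (K.gr p) := fun p hp => by
    have h := (Groth.Agent.S8355.result E r hr (p, n - p) (by
      have := hdeg n (n - p) (by lia)
      rwa [sub_sub_cancel] at this)).2 H a
    exact isZero_gr_of_eq a (by lia) h
  obtain ⟨b, hb⟩ := hdisc
  have hbot : K.fil (p₀ + 1) = ⊥ := by
    rcases le_total (p₀ + 1) b with h | h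
    · rw [← Groth.Agent.S14355.fil_const K (p₀ + 1) b h fun i hi _ => hgr i (by lia)]
      exact hb
    · exact le_bot_iff.mp ((K.anti h).trans hb.le)
  have htop : K.fil p₀ = ⊤ := top_le_iff.1 (hexh.2 (by
    rintro _ ⟨p, rfl⟩
    rcases le_total p p₀ with h | h
    · exact (Groth.Agent.S14355.fil_const K p p₀ h fun i _ hi => hgr i (by lia)).ge
    · exact K.anti h))
  have hz : K.stepLE (Int.le_add_one (le_refl p₀)) = 0 := by
    rw [← cancel_mono (K.fil p₀).arrow, zero_comp, Subobject.ofLE_arrow, arrow_eq_zero_of_eq_bot hbot]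
  have hiso : IsIso (K.fil p₀).arrow := (Subobject.isIso_arrow_iff_eq_top (K.fil p₀)).2 htop
  let pq : ℤ × ℤ := (n - q n, q n)
  let e₁ : K.gr p₀ ≅ H n := cokernelIsoOfEq hz ≪≫ cokernelZeroIsoTarget ≪≫ @asIso _ _ _ _ (K.fil p₀).arrow hiso
  have e₂ : Nonempty ((E.page (a.rk pq) (a.stat pq).1).X pq ≅ K.gr p₀) := by
    have aux : ∀ m, m = n → Nonempty (SpSeq.grPiece (a.fil m) (a.anti m) p₀ ≅ K.gr p₀) := by
      rintro m rfl
      exact ⟨Iso.refl _⟩
    obtain ⟨e⟩ := aux (pq.1 + pq.2) (by simp [pq])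
    exact ⟨a.β pq ≪≫ e⟩
  obtain ⟨e₂⟩ := e₂
  obtain ⟨e₃⟩ := nonempty_pageIso hst (max r (a.rk pq)) (le_max_left _ _)
  obtain ⟨e₄⟩ := nonempty_pageIso (a.stat pq) (max r (a.rk pq)) (le_max_right _ _)
  exact ⟨e₁.symm ≪≫ e₂.symm ≪≫ e₄ ≪≫ e₃.symm⟩

section Field

variable {K : Type w} [Field K] (S : ShortComplex (ModuleCat.{v} K))

theorem finrank_homology_le [Module.Finite K S.X₂] :
    Module.Finite K S.homology ∧ Module.finrank K S.homology ≤ Module.finrank K S.X₂ ∧
      (Module.finrank K S.X₂ ≤ Module.finrank K S.homology → S.f = 0 ∧ S.g = 0) := by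
  let Z := LinearMap.ker S.g.hom
  let B := LinearMap.range S.moduleCatToCycles
  have e : S.homology ≃ₗ[K] Z ⧸ B := S.moduleCatHomologyIso.toLinearEquiv
  have h1 : Module.finrank K (Z ⧸ B) + Module.finrank K B = Module.finrank K Z := Submodule.finrank_quotient_add_finrank B
  have h2 : Module.finrank K Z ≤ Module.finrank K S.X₂ := Submodule.finrank_le Z
  refine ⟨Module.Finite.equiv e.symm, by rw [e.finrank_eq]; lia, fun h => ?_⟩
  rw [e.finrank_eq] at h
  have hZ : Z = ⊤ := Submodule.eq_top_of_finrank_eq (by lia)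
  have hB : B = ⊥ := Submodule.finrank_eq_zero.1 (by lia)
  constructor
  · ext x
    exact congrArg Subtype.val (LinearMap.congr_fun (LinearMap.range_eq_bot.1 hB) x)
  · exact ModuleCat.hom_ext (LinearMap.ker_eq_top.1 hZ)

theorem stationaryAt_of_sum_finrank (E : CohomologicalSpectralSequence (ModuleCat.{v} K) r₀) (H : ℤ → ModuleCat.{v} K)
    (a : SpSeq.Abutment E H) (n : ℤ) (hfin : a.IsFinite n)
    (hquad : ∀ pq : ℤ × ℤ, pq.1 < 0 ∨ pq.2 < 0 → IsZero ((E.page r₀ le_rfl).X pq))
    (hfd : ∀ pq : ℤ × ℤ, Module.Finite K ((E.page r₀ le_rfl).X pq))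
    (hH : Module.Finite K (H n))
    (hsum : ∑ s ∈ Finset.Icc (0 : ℤ) n, Module.finrank K ((E.page r₀ le_rfl).X (s, n - s)) =
      Module.finrank K (H n)) :
    ∀ s : ℤ, SpSeq.StationaryAt E (s, n - s) r₀ := by
  let d : ∀ (r : ℤ) (_ : r₀ ≤ r) (pq : ℤ × ℤ), ℕ := fun r hr pq => Module.finrank K ((E.page r hr).X pq)
  have hstep : ∀ (pq : ℤ × ℤ) (r : ℤ) (hr : r₀ ≤ r), Module.Finite K ((E.page r hr).X pq) ∧ d r hr pq ≤ d r₀ le_rfl pq := by
    intro pq r hr
    induction r, hr using Int.le_induction with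
    | base => exact ⟨hfd pq, le_rfl⟩
    | succ r hr ih =>
      haveI : Module.Finite K ((E.page r hr).sc pq).X₂ := ih.1
      obtain ⟨hf, hle, -⟩ := finrank_homology_le ((E.page r hr).sc pq)
      haveI : Module.Finite K ((E.page r hr).homology pq) := hf
      let e := (E.iso r (r + 1) pq rfl hr).toLinearEquiv
      refine ⟨Module.Finite.equiv e, le_trans ?_ ih.2⟩
      change Module.finrank K ((E.page (r + 1) _).X pq) ≤ _
      rw [← e.finrank_eq]
      exact hle
  have hmono : ∀ (pq : ℤ × ℤ) (r k : ℤ) (hr : r₀ ≤ r) (hrk : r ≤ k), d k (hr.trans hrk) pq ≤ d r hr pq := by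
    intro pq r k hr hrk
    induction k, hrk using Int.le_induction with
    | base => exact le_rfl
    | succ k hk ih =>
      haveI : Module.Finite K ((E.page k (hr.trans hk)).sc pq).X₂ := (hstep pq k (hr.trans hk)).1
      refine le_trans ?_ ih
      change Module.finrank K ((E.page (k + 1) _).X pq) ≤ _
      rw [← (E.iso k (k + 1) pq rfl (hr.trans hk)).toLinearEquiv.finrank_eq]
      exact (finrank_homology_le ((E.page k (hr.trans hk)).sc pq)).2.1
  -- the graded pieces
  let F := a.filObj n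
  have hgrle : ∀ s, Module.finrank K (F.gr s) ≤ d r₀ le_rfl (s, n - s) ∧
      (d r₀ le_rfl (s, n - s) ≤ Module.finrank K (F.gr s) → SpSeq.StationaryAt E (s, n - s) r₀) := by
    intro s
    have aux : ∀ m, m = n → Nonempty (SpSeq.grPiece (a.fil m) (a.anti m) s ≅ F.gr s) := by
      rintro m rfl
      exact ⟨Iso.refl _⟩
    obtain ⟨e⟩ := aux (s + (n - s)) (by lia)
    have he : Module.finrank K (F.gr s) = d (a.rk (s, n - s)) (a.stat (s, n - s)).1 (s, n - s) :=
      ((a.β (s, n - s)).toLinearEquiv.trans e.toLinearEquiv).finrank_eq.symm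
    refine ⟨he ▸ (hstep (s, n - s) _ (a.stat (s, n - s)).1).2, fun hle => ⟨le_rfl, fun k hk _ => ?_⟩⟩
    by_cases hk' : a.rk (s, n - s) ≤ k
    · exact (a.stat (s, n - s)).2 k hk hk'
    · have h1 : d (a.rk (s, n - s)) (a.stat (s, n - s)).1 (s, n - s) ≤ d (k + 1) (hk.trans (by lia)) (s, n - s) :=
        hmono _ (k + 1) _ (hk.trans (by lia)) (by lia)
      have h2 := hmono (s, n - s) r₀ k le_rfl hk
      haveI : Module.Finite K ((E.page k hk).sc (s, n - s)).X₂ := (hstep (s, n - s) k hk).1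
      have h3 : d (k + 1) (hk.trans (by lia)) (s, n - s) = Module.finrank K ((E.page k hk).sc (s, n - s)).homology :=
        (E.iso k (k + 1) (s, n - s) rfl hk).toLinearEquiv.finrank_eq.symm
      obtain ⟨hf, hg⟩ := (finrank_homology_le ((E.page k hk).sc (s, n - s))).2.2 (by
        change d k hk (s, n - s) ≤ _
        lia)
      constructor
      · change (E.page k hk).d _ _ = 0 at hf
        rwa [show (ComplexShape.up' (⟨k, 1 - k⟩ : ℤ × ℤ)).prev (s, n - s) = (s, n - s) - (k, 1 - k) from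
          ComplexShape.prev_eq' _ (by simp)] at hf
      · change (E.page k hk).d _ _ = 0 at hg
        rwa [show (ComplexShape.up' (⟨k, 1 - k⟩ : ℤ × ℤ)).next (s, n - s) = (s, n - s) + (k, 1 - k) from
          ComplexShape.next_eq' _ (by simp)] at hg
  -- the dimensions along the filtration
  have hstepfil : ∀ p, Module.finrank K (F.step p) = Module.finrank K (F.step (p + 1)) + Module.finrank K (F.gr p) := by
    intro p
    let i := F.stepLE (Int.le_add_one (le_refl p))
    haveI : Module.Finite K (F.step p) := by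
      haveI : Module.Finite K F.obj := hH
      exact Module.Finite.of_injective (F.fil p).arrow.hom ((ModuleCat.mono_iff_injective _).1 inferInstance)
    have e : (cokernel i : ModuleCat.{v} K) ≃ₗ[K] (F.step p ⧸ LinearMap.range i.hom) :=
      (ModuleCat.cokernelIsoRangeQuotient i).toLinearEquiv
    change _ = _ + Module.finrank K (cokernel i : ModuleCat.{v} K)
    rw [e.finrank_eq, ← Submodule.finrank_quotient_add_finrank (LinearMap.range i.hom),
      LinearMap.finrank_range_of_inj ((ModuleCat.mono_iff_injective i).1 inferInstance), add_comm]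
  obtain ⟨⟨u₁, hu₁⟩, u₂, hu₂⟩ := hfin
  have hzero : ∀ s, (s < 0 ∨ n < s) → IsZero (F.gr s) := fun s hs => by
    have h := (Groth.Agent.S8355.result E r₀ le_rfl (s, n - s) (hquad _ (by
      change s < 0 ∨ n - s < 0
      lia))).2 H a
    exact isZero_gr_of_eq a (by lia) h
  have htop : F.fil 0 = ⊤ := by
    rcases le_total u₁ 0 with h | h
    · rw [Groth.Agent.S14355.fil_const F u₁ 0 h fun i _ hi => hzero i (Or.inl hi)]
      exact hu₁
    · exact top_le_iff.1 (hu₁.symm.le.trans (F.anti h))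
  have hbot : ∀ m, n < m → F.fil m = ⊥ := by
    intro m hm
    rcases le_total m u₂ with h | h
    · rw [← Groth.Agent.S14355.fil_const F m u₂ h fun i hi _ => hzero i (Or.inr (by lia))]
      exact hu₂
    · exact le_bot_iff.1 ((F.anti h).trans hu₂.le)
  have hHrank : ∀ k : ℕ, Module.finrank K (F.step 0) =
      Module.finrank K (F.step k) + ∑ s ∈ Finset.range k, Module.finrank K (F.gr s) := by
    intro k
    induction k with
    | zero => simp
    | succ k ih =>
      rw [ih, Finset.sum_range_succ, hstepfil (k : ℤ), show ((k + 1 : ℕ) : ℤ) = (k : ℤ) + 1 by push_cast; ring]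
      ring
  intro s
  by_cases hs : s < 0 ∨ n < s
  · refine (hgrle s).2 ?_
    haveI := ModuleCat.subsingleton_of_isZero (hquad (s, n - s) (by change s < 0 ∨ n - s < 0; lia))
    simp [d, Module.finrank_zero_of_subsingleton]
  obtain ⟨N, hN⟩ : ∃ N : ℕ, n + 1 = N := ⟨(n + 1).toNat, by lia⟩
  have h0 : Module.finrank K (F.step 0) = Module.finrank K (H n) := by
    haveI : IsIso (F.fil 0).arrow := (Subobject.isIso_arrow_iff_eq_top _).2 htop
    exact (asIso (F.fil 0).arrow).toLinearEquiv.finrank_eq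
  have hN0 : Module.finrank K (F.step N) = 0 := by
    have h : (F.fil N).arrow = 0 := arrow_eq_zero_of_eq_bot (hbot N (by lia))
    haveI := ModuleCat.subsingleton_of_isZero (IsZero.of_mono_eq_zero _ h)
    exact Module.finrank_zero_of_subsingleton
  have hrange : (Finset.Icc (0 : ℤ) n) = (Finset.range N).map ⟨Nat.cast, Nat.cast_injective⟩ := by
    ext x
    simp only [Finset.mem_Icc, Finset.mem_map, Finset.mem_range, Function.Embedding.coeFn_mk]
    exact ⟨fun h => ⟨x.toNat, by lia, by lia⟩, fun ⟨y, hy, hyx⟩ => by lia⟩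
  rw [hrange, Finset.sum_map, ← h0, hHrank N, hN0, zero_add] at hsum
  simp only [Function.Embedding.coeFn_mk] at hsum
  obtain ⟨y, rfl⟩ : ∃ y : ℕ, s = y := ⟨s.toNat, by lia⟩
  refine (hgrle y).2 (le_of_eq ?_)
  exact ((Finset.sum_eq_sum_iff_of_le fun (i : ℕ) _ => (hgrle i).1).1 hsum.symm y (Finset.mem_range.2 (by lia))).symm

end Field

end Groth.Agent.H6SpSeq
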