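import Groth.Agent.H6SpSeq.FilObj
import Mathlib

/-!
# Convergence of the spectral sequence of a filtered complex from the cohomology of its steps
-/

universe v u

open CategoryTheory CategoryTheory.Limits HomologicalComplex

namespace Groth.Agent.H6SpSeq

variable {A : Type u} [Category.{v} A] [Abelian A] (K : SpSeq.FilCx A)

/-- The inclusion `F^p K^m → K^m`. -/
noncomputable abbrev inc (p m : ℤ) : (K.step p).X m ⟶ K.obj.X m := (K.fil p).arrow.f m

theorem stepLE_f_inc {p q : ℤ} (h : p ≤ q) (m : ℤ) : (K.stepLE h).f m ≫ inc K p m = inc K q m := by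
  rw [← comp_f, Subobject.ofLE_arrow]

theorem filX_factors {p m : ℤ} {T : A} (x : T ⟶ K.obj.X m) :
    (K.filX p m).Factors x ↔ ∃ y, y ≫ inc K p m = x := Subobject.mk_factors_iff _ _

theorem filX_factors_inc {p m : ℤ} {T : A} (y : T ⟶ (K.step p).X m) : (K.filX p m).Factors (y ≫ inc K p m) :=
  (filX_factors K _).2 ⟨y, rfl⟩

theorem kernel_factors {X Y T : A} {f : X ⟶ Y} (x : T ⟶ X) (h : x ≫ f = 0) : (kernelSubobject f).Factors x :=
  (kernelSubobject_factors_iff _ _).2 h

/-- A chain of a step with boundary in a deeper step is, locally, a cycle plus a chain of the deeper step. -/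
theorem exists_split {p q : ℤ} (h : p ≤ q) (n : ℤ) (hm : Mono (homologyMap (K.stepLE h) (n + 1))) {T : A}
    (x' : T ⟶ (K.step p).X n) (y' : T ⟶ (K.step q).X (n + 1))
    (hx : x' ≫ (K.step p).d n (n + 1) = y' ≫ (K.stepLE h).f (n + 1)) :
    ∃ (T' : A) (π : T' ⟶ T) (_ : Epi π) (u : T' ⟶ (K.step q).X n),
      (π ≫ x' - u ≫ (K.stepLE h).f n) ≫ (K.step p).d n (n + 1) = 0 := by
  haveI : Mono ((K.stepLE h).f (n + 1)) :=
    haveI : Mono ((K.stepLE h).f (n + 1) ≫ inc K p (n + 1)) := by rw [stepLE_f_inc]; infer_instance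
    mono_of_mono _ (inc K p (n + 1))
  have hy : y' ≫ (K.step q).d (n + 1) (n + 2) = 0 := by
    haveI : Mono ((K.stepLE h).f (n + 2)) :=
      haveI : Mono ((K.stepLE h).f (n + 2) ≫ inc K p (n + 2)) := by rw [stepLE_f_inc]; infer_instance
      mono_of_mono _ (inc K p (n + 2))
    rw [← cancel_mono ((K.stepLE h).f (n + 2)), Category.assoc, zero_comp, ← (K.stepLE h).comm,
      ← Category.assoc, ← hx, Category.assoc, d_comp_d, comp_zero]
  obtain ⟨T', π, hπ, u, hu⟩ := (mono_homologyMap_iff_up_to_refinements (K.stepLE h) n (n + 1) (n + 2)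
    (by simp) (by simp; ring)).1 hm y' hy x' hx.symm
  refine ⟨T', π, hπ, u, ?_⟩
  rw [Preadditive.sub_comp, Category.assoc, hx, reassoc_of% hu, Category.assoc, (K.stepLE h).comm, sub_self]

theorem ZTop_le_ZSub (r : ℕ) (p n : ℤ) : K.ZTop p n ≤ K.ZSub r p n :=
  sup_le_sup_right (inf_le_inf_left _ (SpSeq.FilCx.kernelSubobject_le_pullback _ _)) _

theorem BSub_le_BBot (r : ℕ) (p n : ℤ) : K.BSub r p n ≤ K.BBot p n :=
  sup_le_sup_right (inf_le_inf_left _ (imageSubobject_comp_le _ _)) _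

theorem ZSub_eq_ZTop (r : ℕ) (hr : 1 ≤ r) (p n : ℤ)
    (hm : Mono (homologyMap (K.stepLE (show p ≤ p + (r : ℤ) by omega)) (n + 1))) :
    K.ZSub r p n = K.ZTop p n := by
  refine le_antisymm (sup_le (le_of_factors_arrow ?_) le_sup_right) (ZTop_le_ZSub K r p n)
  have hx : (K.filX p n ⊓ (Subobject.pullback (K.obj.d n (n + 1))).obj (K.filX (p + r) (n + 1))).Factors
      (K.filX p n ⊓ (Subobject.pullback (K.obj.d n (n + 1))).obj (K.filX (p + r) (n + 1))).arrow :=
    Subobject.factors_self _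
  obtain ⟨h1, h2⟩ := (Subobject.inf_factors _).1 hx
  obtain ⟨x', hx'⟩ := (filX_factors K _).1 h1
  obtain ⟨y', hy'⟩ := (filX_factors K _).1 ((pullback_factors _ _ _).1 h2)
  obtain ⟨T', π, hπ, u, hu⟩ := exists_split K _ n hm x' y' (by
    rw [← cancel_mono (inc K p (n + 1)), Category.assoc, Category.assoc, ← Hom.comm, stepLE_f_inc,
      ← Category.assoc, hx', hy'])
  refine factors_of_epi π _ ?_
  have e : π ≫ (K.filX p n ⊓ (Subobject.pullback (K.obj.d n (n + 1))).obj (K.filX (p + r) (n + 1))).arrow =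
      (π ≫ x' - u ≫ (K.stepLE (show p ≤ p + (r : ℤ) by omega)).f n) ≫ inc K p n + u ≫ inc K (p + r) n := by
    rw [Preadditive.sub_comp, Category.assoc, Category.assoc, stepLE_f_inc, hx', sub_add_cancel]
  rw [e]
  refine Subobject.factors_add _ _ (Subobject.sup_factors_of_factors_left ((Subobject.inf_factors _).2
    ⟨filX_factors_inc K _, kernel_factors _ ?_⟩)) (Subobject.sup_factors_of_factors_right ?_)
  · rw [Category.assoc, Hom.comm, ← Category.assoc, hu, zero_comp]
  · exact Subobject.factors_of_le _ (K.filX_anti n (by omega)) (filX_factors_inc K u)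

theorem isZero_subquot_of_le {X : A} {Z B : Subobject X} (h : B ≤ Z) (h' : Z ≤ B) : IsZero (SpSeq.subquot Z B h) := by
  obtain rfl := le_antisymm h h'
  haveI : Epi (B.ofLE B h) := by rw [Subobject.ofLE_refl]; infer_instance
  exact isZero_cokernel_of_epi _

theorem isZero_E_one (p n : ℤ) (he : Epi (homologyMap (K.stepLE (show p ≤ p + 1 by omega)) n))
    (hm : Mono (homologyMap (K.stepLE (show p ≤ p + 1 by omega)) (n + 1))) : IsZero (K.E 1 p n) := by
  refine isZero_subquot_of_le _ (sup_le (le_of_factors_arrow ?_) le_sup_right)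
  let S := K.filX p n ⊓ (Subobject.pullback (K.obj.d n (n + 1))).obj (K.filX (p + (1 : ℕ)) (n + 1))
  obtain ⟨h1, h2⟩ := (Subobject.inf_factors _).1 (Subobject.factors_self S)
  obtain ⟨x', hx'⟩ := (filX_factors K _).1 h1
  have h2' : (K.filX (p + 1) (n + 1)).Factors (S.arrow ≫ K.obj.d n (n + 1)) := by
    simpa using (pullback_factors _ _ _).1 h2
  obtain ⟨y', hy'⟩ := (filX_factors K _).1 h2'
  obtain ⟨T', π, hπ, u, hu⟩ := exists_split K _ n hm x' y' (by
    rw [← cancel_mono (inc K p (n + 1)), Category.assoc, Category.assoc, ← Hom.comm, stepLE_f_inc,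
      ← Category.assoc, hx', hy'])
  obtain ⟨T'', π', hπ', w, -, z, hz⟩ := (epi_homologyMap_iff_up_to_refinements
    (K.stepLE (show p ≤ p + 1 by omega)) (n - 1) n (n + 1) (by simp) (by simp)).1 he _ hu
  refine factors_of_epi (π' ≫ π) _ ?_
  have e : (π' ≫ π) ≫ S.arrow = z ≫ inc K p (n - 1) ≫ K.obj.d (n - 1) n + (π' ≫ u + w) ≫ inc K (p + 1) n := by
    have hz' := congrArg (fun t => t ≫ inc K p n) hz
    simp only [Preadditive.sub_comp, Preadditive.comp_sub, Preadditive.add_comp, Category.assoc, stepLE_f_inc,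
      hx'] at hz'
    rw [Category.assoc, sub_eq_iff_eq_add.1 hz', Hom.comm, Preadditive.add_comp, Category.assoc]
    abel
  change Subobject.Factors _ ((π' ≫ π) ≫ S.arrow)
  rw [e]
  refine Subobject.factors_add _ _ (Subobject.sup_factors_of_factors_left ((Subobject.inf_factors _).2 ⟨?_, ?_⟩))
    (Subobject.sup_factors_of_factors_right (filX_factors_inc K _))
  · rw [Hom.comm, ← Category.assoc]
    exact filX_factors_inc K _
  · have hf : (K.filX (p - (1 : ℕ) + 1) (n - 1)).Factors (z ≫ inc K p (n - 1)) := by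
      simpa using filX_factors_inc K z
    rw [← Category.assoc, ← Subobject.factorThru_arrow _ _ hf, Category.assoc]
    exact imageSubobject_factors_comp_self _ _

theorem BSub_eq_BBot (r : ℕ) (hr : 1 ≤ r) (p n : ℤ)
    (hm : Mono (homologyMap (K.fil (p - r + 1)).arrow n)) : K.BSub r p n = K.BBot p n := by
  refine le_antisymm (BSub_le_BBot K r p n) (sup_le (le_of_factors_arrow ?_) le_sup_right)
  let S := K.filX p n ⊓ imageSubobject (K.obj.d (n - 1) n)
  obtain ⟨h1, h2⟩ := (Subobject.inf_factors _).1 (Subobject.factors_self S)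
  obtain ⟨x', hx'⟩ := (filX_factors K _).1 h1
  obtain ⟨T', π, hπ, z, hz⟩ := image_factors _ _ h2
  have hle : p - (r : ℤ) + 1 ≤ p := by omega
  have hcyc : (π ≫ x' ≫ (K.stepLE hle).f n) ≫ (K.step (p - r + 1)).d n (n + 1) = 0 := by
    rw [← cancel_mono (inc K (p - r + 1) (n + 1))]
    simp only [Category.assoc, ← Hom.comm, zero_comp]
    rw [← Category.assoc ((K.stepLE hle).f n), stepLE_f_inc, ← Category.assoc x', hx', ← Category.assoc, hz,
      Category.assoc, d_comp_d, comp_zero]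
  obtain ⟨T'', π', hπ', z', hz'⟩ := (mono_homologyMap_iff_up_to_refinements (K.fil (p - r + 1)).arrow (n - 1) n (n + 1)
    (by simp) (by simp)).1 hm _ hcyc z (by rw [Category.assoc, Category.assoc, stepLE_f_inc, hx', hz])
  refine factors_of_epi (π' ≫ π) _ (Subobject.sup_factors_of_factors_left ((Subobject.inf_factors _).2 ⟨?_, ?_⟩))
  · exact Subobject.factors_of_factors_right _ h1
  · have e : (π' ≫ π) ≫ S.arrow = (z' ≫ inc K (p - r + 1) (n - 1)) ≫ K.obj.d (n - 1) n := by
      rw [Category.assoc, Category.assoc, Hom.comm, ← Category.assoc z', ← hz']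
      simp only [Category.assoc, stepLE_f_inc, hx']
    change Subobject.Factors _ ((π' ≫ π) ≫ S.arrow)
    rw [e, ← Subobject.factorThru_arrow _ _ (filX_factors_inc K z'), Category.assoc]
    exact imageSubobject_factors_comp_self _ _

variable {K}

theorem isIso_homologyMap_stepLE {p q : ℤ} (h : p ≤ q) (m : ℤ) [IsIso (homologyMap (K.fil p).arrow m)]
    [IsIso (homologyMap (K.fil q).arrow m)] : IsIso (homologyMap (K.stepLE h) m) := by
  have e : homologyMap (K.stepLE h) m ≫ homologyMap (K.fil p).arrow m = homologyMap (K.fil q).arrow m := by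
    rw [← homologyMap_comp, Subobject.ofLE_arrow]
  exact IsIso.of_isIso_fac_right e

theorem isComplete_of_isDiscrete {L : SpSeq.FilObj A} (h : L.IsDiscrete) : L.IsComplete := by
  intro T f hf
  obtain ⟨q0, hq0⟩ := h
  have hiso : ∀ q, q0 ≤ q → IsIso (cokernel.π (L.fil q).arrow) := fun q hq => by
    have : L.fil q = ⊥ := le_bot_iff.1 ((L.anti hq).trans hq0.le)
    have hz : (L.fil q).arrow = 0 := by rw [this, Subobject.bot_arrow]
    exact cokernel.π_of_zero hz
  have hπ : ∀ {p q : ℤ} (h : p ≤ q), cokernel.π (L.fil q).arrow ≫ L.quotMap h = cokernel.π (L.fil p).arrow :=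
    fun h => cokernel.π_desc _ _ _
  have := hiso q0 le_rfl
  refine ⟨f q0 ≫ inv (cokernel.π (L.fil q0).arrow), fun p => ?_⟩
  let q := max p q0
  have := hiso q (le_max_right _ _)
  have e1 := hπ (le_max_right p q0)
  have : IsIso (L.quotMap (le_max_right p q0)) := IsIso.of_isIso_fac_left e1
  have e2 : f q = (f q0 ≫ inv (cokernel.π (L.fil q0).arrow)) ≫ cokernel.π (L.fil q).arrow := by
    rw [← cancel_mono (L.quotMap (le_max_right p q0)), hf, Category.assoc, Category.assoc, e1,
      IsIso.inv_hom_id, Category.comp_id]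
  rw [← hf p q (le_max_left _ _), e2]
  simp only [Category.assoc, hπ]

theorem converges (h0 : ∀ n : ℤ, ∃ p₀ : ℤ, ∀ p : ℤ, p₀ ≤ p → IsZero ((K.step p).homology n))
    (h1 : ∀ n : ℤ, ∃ p₁ : ℤ, ∀ p : ℤ, p ≤ p₁ → IsIso (homologyMap (K.fil p).arrow n)) :
    K.IsBounded 1 ∧ (∀ n : ℤ, (K.HFil n).IsFinite) ∧ K.Converges := by
  choose a ha using h0
  choose b hb using h1
  have hfin : ∀ n, (K.HFil n).IsFinite := fun n => by
    refine ⟨⟨b n, ?_⟩, ⟨a n, ?_⟩⟩
    · change imageSubobject (homologyMap (K.fil (b n)).arrow n) = ⊤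
      have := hb n (b n) le_rfl
      rw [imageSubobject_mono]
      exact Subobject.mk_eq_top_of_isIso _
    · change imageSubobject (homologyMap (K.fil (a n)).arrow n) = ⊥
      rw [(ha n (a n) le_rfl).eq_of_src (homologyMap (K.fil (a n)).arrow n) 0, imageSubobject_zero]
  have hZ : ∀ p n (r : ℕ), 1 ≤ r → a (n + 1) ≤ p + r → K.ZSub r p n = K.ZTop p n := fun p n r hr h =>
    ZSub_eq_ZTop K r hr p n ⟨fun g g' _ => (ha (n + 1) _ h).eq_of_tgt g g'⟩
  have hB : ∀ p n (r : ℕ), 1 ≤ r → p - r + 1 ≤ b n → K.BSub r p n = K.BBot p n := fun p n r hr h => by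
    have := hb n _ h
    exact BSub_eq_BBot K r hr p n inferInstance
  refine ⟨fun n => (Set.finite_Icc (min (b n) (b (n + 1))) (max (a n) (a (n + 1)))).subset fun p hp => ?_, hfin, ?_,
    ⟨?_, fun n => ?_⟩, fun n => isComplete_of_isDiscrete (hfin n).2⟩
  · by_contra hc
    rw [Set.mem_Icc, not_and_or, not_le, not_le, lt_min_iff, max_lt_iff] at hc
    refine hp ?_
    obtain ⟨c1, c2⟩ | ⟨c1, c2⟩ := hc
    · have := hb n p c1.le
      have := hb n (p + 1) c1
      have := hb (n + 1) p c2.le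
      have := hb (n + 1) (p + 1) c2
      have := isIso_homologyMap_stepLE (K := K) (show p ≤ p + 1 by omega) n
      have := isIso_homologyMap_stepLE (K := K) (show p ≤ p + 1 by omega) (n + 1)
      exact isZero_E_one K p n inferInstance inferInstance
    · exact isZero_E_one K p n ⟨fun g g' _ => (ha n p c1.le).eq_of_src g g'⟩
        ⟨fun g g' _ => (ha (n + 1) (p + 1) (by omega)).eq_of_tgt g g'⟩
  · intro p n
    refine ⟨(a (n + 1) - p).toNat + 1, fun r hr => ?_⟩
    rw [hZ p n r (by omega) (by omega), hZ p n _ (by omega) (by omega)]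
  · refine fun p n => ⟨IsLeast.isGLB ⟨⟨(a (n + 1) - p).toNat + 1, hZ p n _ (by omega) (by omega)⟩, ?_⟩,
      IsGreatest.isLUB ⟨⟨(p + 1 - b n).toNat + 1, hB p n _ (by omega) (by omega)⟩, ?_⟩⟩
    · rintro _ ⟨r, rfl⟩
      exact ZTop_le_ZSub K r p n
    · rintro _ ⟨r, rfl⟩
      exact BSub_le_BBot K r p n
  · obtain ⟨⟨a', ha''⟩, ⟨b', hb''⟩⟩ := hfin n
    exact ⟨IsLeast.isGLB ⟨⟨b', hb''⟩, fun _ _ => bot_le⟩,
      IsGreatest.isLUB ⟨⟨a', ha''⟩, fun _ _ => le_top⟩⟩

end Groth.Agent.H6SpSeq
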