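import Groth.Prelude.Def_SpSeq
import Mathlib

/-!
# Pushouts and pullbacks of filtered objects
-/

universe v u

open CategoryTheory CategoryTheory.Limits

namespace Groth.Agent.H6SpSeq

variable {A : Type u} [Category.{v} A] [Abelian A]

theorem factors_of_epi {X T T' : A} {S : Subobject X} (π : T' ⟶ T) [Epi π] (x : T ⟶ X)
    (h : S.Factors (π ≫ x)) : S.Factors x := by
  obtain ⟨y, hy⟩ : ∃ y, y ≫ S.arrow = π ≫ x := ⟨S.factorThru _ h, S.factorThru_arrow _ h⟩
  have h0 : x ≫ cokernel.π S.arrow = 0 := by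
    rw [← cancel_epi π, ← Category.assoc, ← hy, Category.assoc, cokernel.condition, comp_zero, comp_zero]
  exact (S.factors_iff x).2 ⟨Abelian.monoLift S.arrow x h0, Abelian.monoLift_comp _ _ h0⟩

theorem image_factors {X Y T : A} (f : X ⟶ Y) (x : T ⟶ Y) (h : (imageSubobject f).Factors x) :
    ∃ (T' : A) (π : T' ⟶ T) (_ : Epi π) (y : T' ⟶ X), π ≫ x = y ≫ f := by
  haveI : Epi (factorThruImageSubobject f) := by
    unfold factorThruImageSubobject; exact epi_comp _ _
  obtain ⟨T', π, hπ, y, hy⟩ := surjective_up_to_refinements_of_epi (factorThruImageSubobject f)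
    ((imageSubobject f).factorThru x h)
  refine ⟨T', π, hπ, y, ?_⟩
  rw [← (imageSubobject f).factorThru_arrow x h, reassoc_of% hy, imageSubobject_arrow_comp]

theorem image_le {X Y : A} (f : X ⟶ Y) {S : Subobject Y} (h : S.Factors f) : imageSubobject f ≤ S :=
  imageSubobject_le f (S.factorThru f h) (S.factorThru_arrow f h)

theorem le_of_factors_arrow {X : A} {S T : Subobject X} (h : T.Factors S.arrow) : S ≤ T :=
  Subobject.le_of_comm (T.factorThru _ h) (T.factorThru_arrow _ h)

theorem pullback_factors {X Y T : A} (h : X ⟶ Y) (S : Subobject Y) (x : T ⟶ X) :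
    ((Subobject.pullback h).obj S).Factors x ↔ S.Factors (x ≫ h) := by
  constructor
  · intro hx
    refine (S.factors_iff _).2 ⟨((Subobject.pullback h).obj S).factorThru x hx ≫ Subobject.pullbackπ h S, ?_⟩
    change (((Subobject.pullback h).obj S).factorThru x hx ≫ Subobject.pullbackπ h S) ≫ S.arrow = x ≫ h
    rw [Category.assoc, (Subobject.isPullback h S).w, ← Category.assoc, Subobject.factorThru_arrow]
  · intro hx
    refine (Subobject.factors_iff _ _).2 ⟨(Subobject.isPullback h S).lift (S.factorThru _ hx) x (S.factorThru_arrow _ hx), ?_⟩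
    exact (Subobject.isPullback h S).lift_snd _ _ _

theorem compat_factors {K L : SpSeq.FilObj A} (f : K ⟶ L) (p : ℤ) {T : A} (x : T ⟶ K.obj)
    (hx : (K.fil p).Factors x) : (L.fil p).Factors (x ≫ f.hom) :=
  (pullback_factors f.hom _ x).1 (Subobject.factors_of_le x (f.compat p) hx)

/-- Build a morphism from factorizations. -/
def mkHom {K L : SpSeq.FilObj A} (h : K.obj ⟶ L.obj)
    (hh : ∀ p, (L.fil p).Factors ((K.fil p).arrow ≫ h)) : K ⟶ L :=
  ⟨h, fun p => le_of_factors_arrow ((pullback_factors h _ _).2 (hh p))⟩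

section Pullback

variable {K L M : SpSeq.FilObj A} (f : L ⟶ K) (g : M ⟶ K)

/-- The pullback filtered object. -/
noncomputable def pb : SpSeq.FilObj A where
  obj := pullback f.hom g.hom
  fil p := (Subobject.pullback (pullback.fst f.hom g.hom)).obj (L.fil p) ⊓
    (Subobject.pullback (pullback.snd f.hom g.hom)).obj (M.fil p)
  anti _ _ h := inf_le_inf ((Subobject.pullback _).map (homOfLE (L.anti h))).le
    ((Subobject.pullback _).map (homOfLE (M.anti h))).le

/-- The first projection. -/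
noncomputable def pbFst : pb f g ⟶ L := ⟨pullback.fst _ _, fun _ => inf_le_left⟩

/-- The second projection. -/
noncomputable def pbSnd : pb f g ⟶ M := ⟨pullback.snd _ _, fun _ => inf_le_right⟩

theorem isPullback_pb : IsPullback (pbFst f g) (pbSnd f g) f g := by
  refine ⟨⟨SpSeq.FilObj.Hom.ext pullback.condition⟩, ⟨PullbackCone.IsLimit.mk _
    (fun s => mkHom (K := s.pt) (pullback.lift s.fst.hom s.snd.hom (congrArg SpSeq.FilObj.Hom.hom s.condition))
      fun p => (Subobject.inf_factors _).2 ⟨(pullback_factors _ _ _).2 ?_, (pullback_factors _ _ _).2 ?_⟩)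
    (fun s => SpSeq.FilObj.Hom.ext (pullback.lift_fst _ _ _))
    (fun s => SpSeq.FilObj.Hom.ext (pullback.lift_snd _ _ _))
    (fun s m h1 h2 => SpSeq.FilObj.Hom.ext (pullback.hom_ext
      ((congrArg SpSeq.FilObj.Hom.hom h1).trans (pullback.lift_fst _ _ _).symm)
      ((congrArg SpSeq.FilObj.Hom.hom h2).trans (pullback.lift_snd _ _ _).symm)))⟩⟩
  · erw [Category.assoc, pullback.lift_fst]
    exact compat_factors s.fst p _ (Subobject.factors_self _ |> fun h => by simpa using h)
  · erw [Category.assoc, pullback.lift_snd]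
    exact compat_factors s.snd p _ (Subobject.factors_self _ |> fun h => by simpa using h)

theorem isStrict_of_isPullback {P : SpSeq.FilObj A} {g' : P ⟶ L} {f' : P ⟶ M} (h : IsPullback g' f' f g)
    (hf : SpSeq.FilObj.IsStrict f) : SpSeq.FilObj.IsStrict f' := by
  intro p
  refine le_antisymm (le_inf (imageSubobject_comp_le _ _) (image_le _
    (compat_factors f' p _ (Subobject.factors_self _ |> fun h => by simpa using h)))) ?_
  refine le_of_factors_arrow ?_
  have hx := (imageSubobject f'.hom ⊓ M.fil p).factors_self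
  generalize (imageSubobject f'.hom ⊓ M.fil p).arrow = x at *
  obtain ⟨h1, h2⟩ := (Subobject.inf_factors _).1 (show (imageSubobject f'.hom ⊓ M.fil p).Factors x by simpa using hx)
  obtain ⟨T₁, π₁, _, a, ha⟩ := image_factors _ _ h1
  have hw : g'.hom ≫ f.hom = f'.hom ≫ g.hom := congrArg SpSeq.FilObj.Hom.hom h.w
  have h3 : (imageSubobject f.hom ⊓ K.fil p).Factors (π₁ ≫ x ≫ g.hom) := by
    refine (Subobject.inf_factors _).2 ⟨?_, Subobject.factors_of_factors_right π₁ (compat_factors g p x h2)⟩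
    rw [reassoc_of% ha, ← hw, ← Category.assoc]
    exact imageSubobject_factors_comp_self _ _
  rw [← hf p] at h3
  obtain ⟨T₂, π₂, _, l, hl⟩ := image_factors _ _ h3
  obtain ⟨w, hw1, hw2⟩ : ∃ w : T₂ ⟶ (pb f g).obj,
      w ≫ (pbFst f g).hom = l ≫ (L.fil p).arrow ∧ w ≫ (pbSnd f g).hom = π₂ ≫ π₁ ≫ x :=
    ⟨pullback.lift (f := f.hom) (g := g.hom) _ _ (by simp only [Category.assoc]; exact hl.symm),
      pullback.lift_fst _ _ _, pullback.lift_snd _ _ _⟩
  have hwmem : ((pb f g).fil p).Factors w := by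
    refine (Subobject.inf_factors _).2 ⟨(pullback_factors _ _ _).2 ?_, (pullback_factors _ _ _).2 ?_⟩
    · change (L.fil p).Factors (w ≫ (pbFst f g).hom)
      rw [hw1]; exact Subobject.factors_comp_arrow _
    · change (M.fil p).Factors (w ≫ (pbSnd f g).hom)
      rw [hw2]; exact Subobject.factors_of_factors_right π₂ (Subobject.factors_of_factors_right π₁ h2)
  let θ : pb f g ⟶ P := h.lift (pbFst f g) (pbSnd f g) (isPullback_pb f g).w
  have hθ : θ.hom ≫ f'.hom = (pbSnd f g).hom := congrArg SpSeq.FilObj.Hom.hom (h.lift_snd _ _ _)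
  have h4 := compat_factors θ p w hwmem
  refine factors_of_epi π₁ _ (factors_of_epi π₂ _ ?_)
  rw [← hw2, ← hθ, ← Category.assoc, ← (P.fil p).factorThru_arrow _ h4, Category.assoc]
  exact imageSubobject_factors_comp_self _ _

end Pullback

theorem image_desc_eq_sup {X : A} (S T : Subobject X) :
    S ⊔ T = imageSubobject (biprod.desc S.arrow T.arrow) := by
  refine le_antisymm (sup_le ?_ ?_) (imageSubobject_le _ (biprod.desc (S.ofLE _ le_sup_left) (T.ofLE _ le_sup_right))
    (by ext <;> simp))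
  · refine le_of_factors_arrow ?_
    conv_rhs => rw [← biprod.inl_desc S.arrow T.arrow]
    exact imageSubobject_factors_comp_self _ _
  · refine le_of_factors_arrow ?_
    conv_rhs => rw [← biprod.inr_desc S.arrow T.arrow]
    exact imageSubobject_factors_comp_self _ _

theorem sup_factors {X T₀ : A} (S T : Subobject X) (x : T₀ ⟶ X) (h : (S ⊔ T).Factors x) :
    ∃ (T' : A) (π : T' ⟶ T₀) (_ : Epi π) (a : T' ⟶ (S : A)) (b : T' ⟶ (T : A)), π ≫ x = a ≫ S.arrow + b ≫ T.arrow := by
  rw [image_desc_eq_sup] at h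
  obtain ⟨T', π, hπ, y, hy⟩ := image_factors _ _ h
  refine ⟨T', π, hπ, y ≫ biprod.fst, y ≫ biprod.snd, ?_⟩
  rw [hy, biprod.desc_eq, Preadditive.comp_add, Category.assoc, Category.assoc]

section Pushout

variable {K L M : SpSeq.FilObj A} (f : K ⟶ L) (g : K ⟶ M)

/-- The pushout filtered object. -/
noncomputable def po : SpSeq.FilObj A where
  obj := pushout f.hom g.hom
  fil p := imageSubobject ((L.fil p).arrow ≫ pushout.inl f.hom g.hom) ⊔
    imageSubobject ((M.fil p).arrow ≫ pushout.inr f.hom g.hom)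
  anti p q h := sup_le_sup
    (le_of_le_of_eq (le_of_eq_of_le (by rw [← Category.assoc, L.fil q |>.ofLE_arrow]) (imageSubobject_comp_le ((L.fil q).ofLE _ (L.anti h)) ((L.fil p).arrow ≫ pushout.inl f.hom g.hom))) rfl)
    (le_of_le_of_eq (le_of_eq_of_le (by rw [← Category.assoc, M.fil q |>.ofLE_arrow]) (imageSubobject_comp_le ((M.fil q).ofLE _ (M.anti h)) ((M.fil p).arrow ≫ pushout.inr f.hom g.hom))) rfl)

/-- The first inclusion. -/
noncomputable def poInl : L ⟶ po f g := mkHom (pushout.inl f.hom g.hom) fun q =>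
  Subobject.factors_of_le _ le_sup_left (by
    have h := imageSubobject_factors_comp_self ((L.fil q).arrow ≫ pushout.inl f.hom g.hom) (𝟙 _)
    rwa [Category.id_comp] at h)

/-- The second inclusion. -/
noncomputable def poInr : M ⟶ po f g := mkHom (pushout.inr f.hom g.hom) fun q =>
  Subobject.factors_of_le _ le_sup_right (by
    have h := imageSubobject_factors_comp_self ((M.fil q).arrow ≫ pushout.inr f.hom g.hom) (𝟙 _)
    rwa [Category.id_comp] at h)

theorem isPushout_po : IsPushout f g (poInl f g) (poInr f g) := by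
  refine ⟨⟨SpSeq.FilObj.Hom.ext pushout.condition⟩, ⟨PushoutCocone.IsColimit.mk _
    (fun s => ⟨pushout.desc s.inl.hom s.inr.hom (congrArg SpSeq.FilObj.Hom.hom s.condition), fun p => sup_le
      (image_le _ ((pullback_factors _ _ _).2 ?_)) (image_le _ ((pullback_factors _ _ _).2 ?_))⟩)
    (fun s => SpSeq.FilObj.Hom.ext (pushout.inl_desc _ _ _))
    (fun s => SpSeq.FilObj.Hom.ext (pushout.inr_desc _ _ _))
    (fun s m h1 h2 => SpSeq.FilObj.Hom.ext (pushout.hom_ext
      ((congrArg SpSeq.FilObj.Hom.hom h1).trans (pushout.inl_desc _ _ _).symm)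
      ((congrArg SpSeq.FilObj.Hom.hom h2).trans (pushout.inr_desc _ _ _).symm)))⟩⟩
  · erw [Category.assoc, pushout.inl_desc]
    exact compat_factors s.inl p _ (Subobject.factors_self _ |> fun h => by simpa using h)
  · erw [Category.assoc, pushout.inr_desc]
    exact compat_factors s.inr p _ (Subobject.factors_self _ |> fun h => by simpa using h)

theorem isStrict_of_isPushout {P : SpSeq.FilObj A} {g' : L ⟶ P} {f' : M ⟶ P} (h : IsPushout f g g' f')
    (hf : SpSeq.FilObj.IsStrict f) : SpSeq.FilObj.IsStrict f' := by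
  intro p
  refine le_antisymm (le_inf (imageSubobject_comp_le _ _) (image_le _
    (compat_factors f' p _ (Subobject.factors_self _ |> fun h => by simpa using h)))) ?_
  refine le_of_factors_arrow ?_
  have hx := (imageSubobject f'.hom ⊓ P.fil p).factors_self
  generalize (imageSubobject f'.hom ⊓ P.fil p).arrow = x at *
  obtain ⟨h1, h2⟩ := (Subobject.inf_factors _).1 (show (imageSubobject f'.hom ⊓ P.fil p).Factors x by simpa using hx)
  let θ : P ⟶ po f g := h.desc (poInl f g) (poInr f g) (isPushout_po f g).w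
  let η : po f g ⟶ P := (isPushout_po f g).desc g' f' h.w
  have hθη : θ ≫ η = 𝟙 P := h.hom_ext (by simp [θ, η]) (by simp [θ, η])
  have hθη' : θ.hom ≫ η.hom = 𝟙 P.obj := congrArg SpSeq.FilObj.Hom.hom hθη
  have hθ : f'.hom ≫ θ.hom = pushout.inr f.hom g.hom := congrArg SpSeq.FilObj.Hom.hom (h.inr_desc _ _ _)
  have hη : pushout.inr f.hom g.hom ≫ η.hom = f'.hom :=
    congrArg SpSeq.FilObj.Hom.hom ((isPushout_po f g).inr_desc g' f' h.w)
  obtain ⟨T₁, π₁, _, m, hm⟩ := image_factors _ _ h1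
  obtain ⟨T₂, π₂, _, a, b, hab⟩ := sup_factors _ _ _
    (show ((imageSubobject ((L.fil p).arrow ≫ pushout.inl f.hom g.hom)) ⊔
      imageSubobject ((M.fil p).arrow ≫ pushout.inr f.hom g.hom)).Factors ((π₁ ≫ x) ≫ θ.hom) from
      compat_factors θ p _ (Subobject.factors_of_factors_right π₁ h2))
  obtain ⟨T₃, π₃, _, l', hl'⟩ := image_factors _ _ (Subobject.factors_comp_arrow (P := imageSubobject ((L.fil p).arrow ≫ pushout.inl f.hom g.hom)) a)
  obtain ⟨T₄, π₄, _, m', hm'⟩ := image_factors _ _ (Subobject.factors_of_factors_right π₃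
    (Subobject.factors_comp_arrow (P := imageSubobject ((M.fil p).arrow ≫ pushout.inr f.hom g.hom)) b))
  let ρ := π₄ ≫ π₃ ≫ π₂
  have hz : biprod.lift ((π₄ ≫ l') ≫ (L.fil p).arrow) (m' ≫ (M.fil p).arrow - ρ ≫ m) ≫
      biprod.desc (pushout.inl f.hom g.hom) (pushout.inr f.hom g.hom) = 0 := by
    have hm2 : (π₁ ≫ x) ≫ θ.hom = m ≫ pushout.inr f.hom g.hom := 
      (congrArg (· ≫ θ.hom) hm).trans ((Category.assoc _ _ _).trans (congrArg (m ≫ ·) hθ))
    rw [biprod.lift_desc, Preadditive.sub_comp, ← add_sub_assoc, sub_eq_zero]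
    simp only [ρ, Category.assoc]
    erw [← hl', ← hm']
    rw [← Preadditive.comp_add, ← Preadditive.comp_add]
    congr 1
    congr 1
    exact hab.symm.trans (congrArg (π₂ ≫ ·) hm2)
  obtain ⟨T₅, π₅, _, k, hk₀⟩ := (IsPushout.of_hasPushout f.hom g.hom).exact_shortComplex.exact_up_to_refinements _ hz
  have hk : π₅ ≫ biprod.lift ((π₄ ≫ l') ≫ (L.fil p).arrow) (m' ≫ (M.fil p).arrow - ρ ≫ m) =
      k ≫ biprod.lift f.hom (-g.hom) := hk₀
  have hk1 : π₅ ≫ (π₄ ≫ l') ≫ (L.fil p).arrow = k ≫ f.hom := by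
    have := congrArg (fun w => w ≫ biprod.fst) hk
    simpa using this
  have hk2 : π₅ ≫ (m' ≫ (M.fil p).arrow - ρ ≫ m) = -(k ≫ g.hom) := by
    have := congrArg (fun w => w ≫ biprod.snd) hk
    simp only [Category.assoc, biprod.lift_snd, Preadditive.comp_sub, Preadditive.comp_neg] at this ⊢
    exact this.trans (Preadditive.comp_neg _ _)
  have h5 : (imageSubobject f.hom ⊓ L.fil p).Factors (k ≫ f.hom) := by
    refine (Subobject.inf_factors _).2 ⟨imageSubobject_factors_comp_self _ _, ?_⟩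
    rw [← hk1, ← Category.assoc]
    exact Subobject.factors_comp_arrow _
  rw [← hf p] at h5
  obtain ⟨T₆, π₆, _, k', hk'⟩ := image_factors _ _ h5
  obtain ⟨e, he⟩ : ∃ e, e ≫ (M.fil p).arrow = (k' ≫ (K.fil p).arrow) ≫ g.hom :=
    ⟨_, (M.fil p).factorThru_arrow _ (compat_factors g p _ (Subobject.factors_comp_arrow k'))⟩
  have hgk : π₆ ≫ π₅ ≫ ρ ≫ m ≫ pushout.inr f.hom g.hom =
      ((π₆ ≫ π₅ ≫ m') + e) ≫ (M.fil p).arrow ≫ pushout.inr f.hom g.hom := by
    have h6 : π₆ ≫ k ≫ g.hom ≫ pushout.inr f.hom g.hom = k' ≫ (K.fil p).arrow ≫ g.hom ≫ pushout.inr f.hom g.hom := by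
      have h8 := congrArg (· ≫ pushout.inl f.hom g.hom) hk'
      simp only [Category.assoc, pushout.condition] at h8
      exact (congrArg (fun t => π₆ ≫ k ≫ t) pushout.condition.symm).trans h8
    have h7 : π₅ ≫ ρ ≫ m = π₅ ≫ m' ≫ (M.fil p).arrow + k ≫ g.hom := by
      rw [Preadditive.comp_sub, sub_eq_iff_eq_add] at hk2
      rw [hk2, neg_add_eq_sub, sub_add_cancel]
    rw [reassoc_of% h7, Preadditive.add_comp, Preadditive.add_comp, Preadditive.comp_add, reassoc_of% he]
    simp only [Category.assoc, h6]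
  have heq : π₆ ≫ π₅ ≫ ρ ≫ π₁ ≫ x = ((π₆ ≫ π₅ ≫ m') + e) ≫ (M.fil p).arrow ≫ f'.hom := by
    have h9 : (π₆ ≫ π₅ ≫ ρ ≫ m ≫ pushout.inr f.hom g.hom) ≫ η.hom =
        (((π₆ ≫ π₅ ≫ m') + e) ≫ (M.fil p).arrow ≫ pushout.inr f.hom g.hom) ≫ η.hom := congrArg (· ≫ η.hom) hgk
    simp only [ρ, Category.assoc] at h9 ⊢
    erw [hη] at h9
    exact (congrArg (fun t => π₆ ≫ π₅ ≫ π₄ ≫ π₃ ≫ π₂ ≫ t) hm).trans h9
  refine factors_of_epi π₁ _ (factors_of_epi ρ _ (factors_of_epi π₅ _ (factors_of_epi π₆ _ ?_)))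
  rw [heq]
  exact imageSubobject_factors_comp_self _ _

end Pushout

end Groth.Agent.H6SpSeq
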