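import Groth.Agent.H6SpSeq.Conv
import Groth.Agent.S6792
import Mathlib

/-!
# Weak Serre classes and the spectral sequence of a filtered complex
-/

universe v u

open CategoryTheory CategoryTheory.Limits HomologicalComplex

namespace Groth.Agent.H6SpSeq

variable {A : Type u} [Category.{v} A] [Abelian A]

section Subquot

variable {X : A} {Z B : Subobject X} (h : B ≤ Z)

/-- The projection `Z → Z / B`. -/
noncomputable def qπ : (Z : A) ⟶ SpSeq.subquot Z B h := cokernel.π (B.ofLE Z h)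

instance : Epi (qπ h) := inferInstanceAs (Epi (cokernel.π (B.ofLE Z h)))

theorem ofLE_qπ : B.ofLE Z h ≫ qπ h = 0 := cokernel.condition _

/-- The class of an element of `Z` in `Z / B`. -/
noncomputable def cls {T : A} (x : T ⟶ X) (hx : Z.Factors x) : T ⟶ SpSeq.subquot Z B h :=
  Z.factorThru x hx ≫ qπ h

theorem comp_cls {T T' : A} (t : T' ⟶ T) (x : T ⟶ X) (hx : Z.Factors x) :
    t ≫ cls h x hx = cls h (t ≫ x) (Subobject.factors_of_factors_right t hx) := by
  rw [cls, cls, ← Category.assoc]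
  congr 1
  rw [← cancel_mono Z.arrow, Category.assoc, Subobject.factorThru_arrow, Subobject.factorThru_arrow]

theorem cls_eq_zero_iff {T : A} (x : T ⟶ X) (hx : Z.Factors x) : cls h x hx = 0 ↔ B.Factors x := by
  constructor
  · intro h0
    obtain ⟨l, hl⟩ : ∃ l : T ⟶ (B : A), l ≫ B.ofLE Z h = Z.factorThru x hx :=
      ⟨Abelian.monoLift (B.ofLE Z h) _ h0, Abelian.monoLift_comp _ _ h0⟩
    exact (B.factors_iff x).2 ⟨l, show l ≫ B.arrow = x by
      rw [← Subobject.ofLE_arrow h, ← Category.assoc, hl, Subobject.factorThru_arrow]⟩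
  · intro hB
    have : Z.factorThru x hx = B.factorThru x hB ≫ B.ofLE Z h := by
      rw [← cancel_mono Z.arrow, Category.assoc, Subobject.ofLE_arrow, Subobject.factorThru_arrow,
        Subobject.factorThru_arrow]
    rw [cls, this, Category.assoc, ofLE_qπ, comp_zero]

theorem cls_sub {T : A} (x y : T ⟶ X) (hx : Z.Factors x) (hy : Z.Factors y) (hxy : Z.Factors (x - y)) :
    cls h (x - y) hxy = cls h x hx - cls h y hy := by
  rw [cls, cls, cls, ← Preadditive.sub_comp]
  congr 1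
  rw [← cancel_mono Z.arrow, Preadditive.sub_comp, Subobject.factorThru_arrow, Subobject.factorThru_arrow,
    Subobject.factorThru_arrow]

theorem cls_eq_of_sub {T : A} {x y : T ⟶ X} (hx : Z.Factors x) (hy : Z.Factors y) (hB : B.Factors (x - y)) :
    cls h x hx = cls h y hy := by
  rw [← sub_eq_zero, ← cls_sub h x y hx hy (Subobject.factors_of_le _ h hB), cls_eq_zero_iff]
  exact hB

/-- Every element of a subquotient locally has a representative. -/
theorem exists_cls {T : A} (γ : T ⟶ SpSeq.subquot Z B h) :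
    ∃ (T' : A) (π : T' ⟶ T) (_ : Epi π) (x : T' ⟶ X) (hx : Z.Factors x), π ≫ γ = cls h x hx := by
  obtain ⟨T', π, hπ, t, ht⟩ := surjective_up_to_refinements_of_epi (qπ h) γ
  refine ⟨T', π, hπ, t ≫ Z.arrow, Subobject.factors_comp_arrow t, ?_⟩
  rw [cls, ht]
  congr 1
  rw [← cancel_mono Z.arrow, Subobject.factorThru_arrow]

/-- The map of subquotients induced by inclusions. -/
noncomputable def subquotMap {Z' B' : Subobject X} (h' : B' ≤ Z') (hZ : Z ≤ Z') (hB : B ≤ B') :
    SpSeq.subquot Z B h ⟶ SpSeq.subquot Z' B' h' :=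
  cokernel.desc _ (Z.ofLE Z' hZ ≫ qπ h') (by
    rw [← Category.assoc, Subobject.ofLE_comp_ofLE, ← Subobject.ofLE_comp_ofLE B B' Z' hB h', Category.assoc,
      ofLE_qπ, comp_zero])

theorem qπ_subquotMap {Z' B' : Subobject X} (h' : B' ≤ Z') (hZ : Z ≤ Z') (hB : B ≤ B') :
    qπ h ≫ subquotMap h h' hZ hB = Z.ofLE Z' hZ ≫ qπ h' :=
  cokernel.π_desc _ _ _

theorem cls_subquotMap {Z' B' : Subobject X} (h' : B' ≤ Z') (hZ : Z ≤ Z') (hB : B ≤ B') {T : A} (x : T ⟶ X)
    (hx : Z.Factors x) :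
    cls h x hx ≫ subquotMap h h' hZ hB = cls h' x (Subobject.factors_of_le x hZ hx) := by
  rw [cls, cls, Category.assoc, qπ_subquotMap, ← Category.assoc]
  congr 1
  rw [← cancel_mono Z'.arrow, Category.assoc, Subobject.ofLE_arrow, Subobject.factorThru_arrow,
    Subobject.factorThru_arrow]

end Subquot

theorem exists_add_of_sup {X T : A} {S S' : Subobject X} (x : T ⟶ X) (hx : (S ⊔ S').Factors x) :
    ∃ (T' : A) (π : T' ⟶ T) (_ : Epi π) (a b : T' ⟶ X), S.Factors a ∧ S'.Factors b ∧ π ≫ x = a + b := by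
  have hle : S ⊔ S' ≤ imageSubobject (biprod.desc S.arrow S'.arrow) := by
    refine sup_le (le_of_factors_arrow ?_) (le_of_factors_arrow ?_)
    · simpa using imageSubobject_factors_comp_self (biprod.desc S.arrow S'.arrow) biprod.inl
    · simpa using imageSubobject_factors_comp_self (biprod.desc S.arrow S'.arrow) biprod.inr
  obtain ⟨T', π, hπ, y, hy⟩ := image_factors _ _ (Subobject.factors_of_le x hle hx)
  refine ⟨T', π, hπ, (y ≫ biprod.fst) ≫ S.arrow, (y ≫ biprod.snd) ≫ S'.arrow, Subobject.factors_comp_arrow _,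
    Subobject.factors_comp_arrow _, ?_⟩
  rw [hy, Category.assoc, Category.assoc, ← Preadditive.comp_add, biprod.desc_eq]

theorem factors_sub {X T : A} {S : Subobject X} {a b : T ⟶ X} (ha : S.Factors a) (hb : S.Factors b) :
    S.Factors (a - b) :=
  (S.factors_iff _).2 ⟨S.factorThru a ha - S.factorThru b hb, show _ ≫ S.arrow = _ by
    rw [Preadditive.sub_comp, Subobject.factorThru_arrow, Subobject.factorThru_arrow]⟩

variable (K : SpSeq.FilCx A)

theorem filX_factors_d {p m m' : ℤ} {T : A} {x : T ⟶ K.obj.X m} (hx : (K.filX p m).Factors x) :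
    (K.filX p m').Factors (x ≫ K.obj.d m m') := by
  obtain ⟨y, rfl⟩ := (filX_factors K x).1 hx
  rw [Category.assoc, Hom.comm, ← Category.assoc]
  exact filX_factors_inc K _

theorem mem_ZSub {r : ℕ} {p n p' n' : ℤ} (hp : p + r = p') (hn : n + 1 = n') {T : A} {x : T ⟶ K.obj.X n}
    (hx : (K.filX p n).Factors x) (hd : (K.filX p' n').Factors (x ≫ K.obj.d n n')) :
    (K.ZSub r p n).Factors x := by
  subst hp hn
  exact Subobject.sup_factors_of_factors_left ((Subobject.inf_factors _).2 ⟨hx, (pullback_factors _ _ _).2 hd⟩)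

theorem ZSub_cases {r : ℕ} {p n p' n' : ℤ} (hp : p + r = p') (hn : n + 1 = n') {T : A} {x : T ⟶ K.obj.X n}
    (hx : (K.ZSub r p n).Factors x) :
    ∃ (T' : A) (π : T' ⟶ T) (_ : Epi π) (a f : T' ⟶ K.obj.X n), (K.filX p n).Factors a ∧
      (K.filX p' n').Factors (a ≫ K.obj.d n n') ∧ (K.filX (p + 1) n).Factors f ∧ π ≫ x = a + f := by
  subst hp hn
  obtain ⟨T', π, hπ, a, f, ha, hf, e⟩ := exists_add_of_sup x hx
  obtain ⟨h1, h2⟩ := (Subobject.inf_factors _).1 ha
  exact ⟨T', π, hπ, a, f, h1, (pullback_factors _ _ _).1 h2, hf, e⟩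

theorem mem_BSub {r : ℕ} {p n q i : ℤ} (hq : p - r + 1 = q) (hi : i + 1 = n) {T : A} {z : T ⟶ K.obj.X i}
    (hz : (K.filX q i).Factors z) (hd : (K.filX p n).Factors (z ≫ K.obj.d i n)) :
    (K.BSub r p n).Factors (z ≫ K.obj.d i n) := by
  obtain rfl : i = n - 1 := by omega
  subst hq
  refine Subobject.sup_factors_of_factors_left ((Subobject.inf_factors _).2 ⟨hd, ?_⟩)
  rw [← Subobject.factorThru_arrow _ _ hz, Category.assoc]
  exact imageSubobject_factors_comp_self _ _

theorem mem_BSub_of_deeper {r : ℕ} {p n : ℤ} {T : A} {f : T ⟶ K.obj.X n} (hf : (K.filX (p + 1) n).Factors f) :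
    (K.BSub r p n).Factors f :=
  Subobject.sup_factors_of_factors_right hf

theorem BSub_cases {r : ℕ} {p n q i : ℤ} (hq : p - r + 1 = q) (hi : i + 1 = n) {T : A} {x : T ⟶ K.obj.X n}
    (hx : (K.BSub r p n).Factors x) :
    ∃ (T' : A) (π : T' ⟶ T) (_ : Epi π) (z : T' ⟶ K.obj.X i) (f : T' ⟶ K.obj.X n), (K.filX q i).Factors z ∧
      (K.filX p n).Factors (z ≫ K.obj.d i n) ∧ (K.filX (p + 1) n).Factors f ∧ π ≫ x = z ≫ K.obj.d i n + f := by
  obtain rfl : i = n - 1 := by omega
  subst hq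
  obtain ⟨T', π, hπ, a, f, ha, hf, e⟩ := exists_add_of_sup x hx
  obtain ⟨h1, h2⟩ := (Subobject.inf_factors _).1 ha
  obtain ⟨T'', π', hπ', z, hz⟩ := image_factors _ _ h2
  refine ⟨T'', π' ≫ π, inferInstance, z ≫ (K.filX (p - r + 1) (n - 1)).arrow, π' ≫ f,
    Subobject.factors_comp_arrow _, ?_, Subobject.factors_of_factors_right _ hf, ?_⟩
  · rw [Category.assoc, ← hz]
    exact Subobject.factors_of_factors_right _ h1
  · rw [Category.assoc, e, Preadditive.comp_add, hz, Category.assoc]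

theorem BSub_mono {r r' : ℕ} (h : r ≤ r') (p n : ℤ) : K.BSub r p n ≤ K.BSub r' p n := by
  refine le_of_factors_arrow ?_
  obtain ⟨T', π, hπ, z, f, hz, hzd, hf, e⟩ := BSub_cases K rfl (sub_add_cancel n 1)
    (Subobject.factors_self (K.BSub r p n))
  refine factors_of_epi π _ ?_
  rw [e]
  exact Subobject.factors_add _ _
    (mem_BSub K rfl (sub_add_cancel n 1) (Subobject.factors_of_le _ (K.filX_anti (n - 1) (by omega)) hz) hzd)
    (mem_BSub_of_deeper K hf)

theorem ZSub_anti {r r' : ℕ} (h : r ≤ r') (p n : ℤ) : K.ZSub r' p n ≤ K.ZSub r p n := by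
  refine le_of_factors_arrow ?_
  obtain ⟨T', π, hπ, a, f, ha, had, hf, e⟩ := ZSub_cases K (rfl : p + (r' : ℤ) = _) rfl
    (Subobject.factors_self (K.ZSub r' p n))
  refine factors_of_epi π _ ?_
  rw [e]
  exact Subobject.factors_add _ _ (mem_ZSub K rfl rfl ha (Subobject.factors_of_le _ (K.filX_anti (n + 1) (by omega)) had))
    (Subobject.sup_factors_of_factors_right hf)

section Page

variable (r : ℕ) (p n : ℤ)

/-- The class of an element on the page. -/
noncomputable def clsE {T : A} (x : T ⟶ K.obj.X n) (hx : (K.ZSub r p n).Factors x) : T ⟶ K.E r p n :=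
  cls (K.BSub_le_ZSub r p n) x hx

theorem comp_clsE {T T' : A} (t : T' ⟶ T) (x : T ⟶ K.obj.X n) (hx : (K.ZSub r p n).Factors x) :
    t ≫ clsE K r p n x hx = clsE K r p n (t ≫ x) (Subobject.factors_of_factors_right t hx) :=
  comp_cls _ t x hx

theorem clsE_eq_zero_iff {T : A} (x : T ⟶ K.obj.X n) (hx : (K.ZSub r p n).Factors x) :
    clsE K r p n x hx = 0 ↔ (K.BSub r p n).Factors x :=
  cls_eq_zero_iff _ x hx

theorem clsE_eq_of_sub {T : A} {x y : T ⟶ K.obj.X n} (hx : (K.ZSub r p n).Factors x) (hy : (K.ZSub r p n).Factors y)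
    (hB : (K.BSub r p n).Factors (x - y)) : clsE K r p n x hx = clsE K r p n y hy :=
  cls_eq_of_sub _ hx hy hB

theorem exists_clsE {T : A} (γ : T ⟶ K.E r p n) :
    ∃ (T' : A) (π : T' ⟶ T) (_ : Epi π) (x : T' ⟶ K.obj.X n) (hx : (K.ZSub r p n).Factors x),
      π ≫ γ = clsE K r p n x hx :=
  exists_cls (K.BSub_le_ZSub r p n) γ

end Page

section Differential

variable {r : ℕ} {p n p' n' : ℤ} (hp : p + r = p') (hn : n + 1 = n')

/-- Elements of `F^p` with boundary in `F^{p'}`. -/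
noncomputable def src (p n p' n' : ℤ) : Subobject (K.obj.X n) :=
  K.filX p n ⊓ (Subobject.pullback (K.obj.d n n')).obj (K.filX p' n')

theorem src_factors {T : A} (t : T ⟶ (src K p n p' n' : A)) :
    (K.filX p n).Factors (t ≫ (src K p n p' n').arrow) ∧
      (K.filX p' n').Factors ((t ≫ (src K p n p' n').arrow) ≫ K.obj.d n n') := by
  obtain ⟨h1, h2⟩ := (Subobject.inf_factors _).1 (Subobject.factors_comp_arrow (P := src K p n p' n') t)
  exact ⟨h1, (pullback_factors _ _ _).1 h2⟩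

include hp hn in
theorem mem_src {T : A} (t : T ⟶ (src K p n p' n' : A)) :
    (K.ZSub r p n).Factors (t ≫ (src K p n p' n').arrow) :=
  mem_ZSub K hp hn (src_factors K t).1 (src_factors K t).2

theorem mem_ZSub_d (r : ℕ) {T : A} (t : T ⟶ (src K p n p' n' : A)) :
    (K.ZSub r p' n').Factors ((t ≫ (src K p n p' n').arrow) ≫ K.obj.d n n') :=
  mem_ZSub K rfl rfl (src_factors K t).2 (by
    rw [Category.assoc, d_comp_d, comp_zero]
    exact Subobject.factors_zero)

/-- The projection of `src` onto the page. -/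
noncomputable def srcπ : (src K p n p' n' : A) ⟶ K.E r p n :=
  clsE K r p n (src K p n p' n').arrow (by simpa using mem_src K hp hn (𝟙 _))

include hp hn in
theorem exists_src {T : A} (γ : T ⟶ K.E r p n) :
    ∃ (T' : A) (π : T' ⟶ T) (_ : Epi π) (t : T' ⟶ (src K p n p' n' : A)), π ≫ γ = t ≫ srcπ K hp hn := by
  obtain ⟨T', π, hπ, x, hx, e⟩ := exists_clsE K r p n γ
  obtain ⟨T'', π', hπ', a, f, ha, had, hf, e'⟩ := ZSub_cases K hp hn hx
  have hs : (src K p n p' n').Factors a := (Subobject.inf_factors _).2 ⟨ha, (pullback_factors _ _ _).2 had⟩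
  refine ⟨T'', π' ≫ π, inferInstance, Subobject.factorThru _ a hs, ?_⟩
  rw [Category.assoc, e, comp_clsE, srcπ, comp_clsE]
  refine clsE_eq_of_sub K r p n _ _ ?_
  rw [e', Subobject.factorThru_arrow, add_sub_cancel_left]
  exact mem_BSub_of_deeper K hf

instance epi_srcπ : Epi (srcπ K hp hn) := by
  rw [epi_iff_surjective_up_to_refinements]
  exact fun T γ => exists_src K hp hn γ

/-- The differential of page `r`. -/
noncomputable def dE : K.E r p n ⟶ K.E r p' n' :=
  Abelian.epiDesc (srcπ K hp hn)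
    (clsE K r p' n' ((src K p n p' n').arrow ≫ K.obj.d n n') (by simpa using mem_ZSub_d K r (𝟙 _))) (by
    have h0 : clsE K r p n (kernel.ι (srcπ K hp hn) ≫ (src K p n p' n').arrow) (mem_src K hp hn _) = 0 :=
      (comp_clsE _ _ _ _ _ _ _).symm.trans (kernel.condition _)
    obtain ⟨T', π, hπ, z, f, hz, hzd, hf, e⟩ := BSub_cases K rfl (sub_add_cancel n 1) ((clsE_eq_zero_iff _ _ _ _ _ _).1 h0)
    rw [comp_clsE, clsE_eq_zero_iff]
    refine factors_of_epi π _ ?_
    have ed : π ≫ kernel.ι (srcπ K hp hn) ≫ (src K p n p' n').arrow ≫ K.obj.d n n' = f ≫ K.obj.d n n' := by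
      rw [← Category.assoc (kernel.ι _), ← Category.assoc, e, Preadditive.add_comp, Category.assoc, d_comp_d,
        comp_zero, zero_add]
    rw [ed]
    refine mem_BSub K (show p' - (r : ℤ) + 1 = p + 1 by omega) hn hf ?_
    rw [← ed, ← Category.assoc (kernel.ι _)]
    exact Subobject.factors_of_factors_right π (src_factors K _).2)

theorem srcπ_dE {T : A} (t : T ⟶ (src K p n p' n' : A)) :
    t ≫ srcπ K hp hn ≫ dE K hp hn =
      clsE K r p' n' ((t ≫ (src K p n p' n').arrow) ≫ K.obj.d n n') (mem_ZSub_d K r t) := by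
  rw [dE, Abelian.comp_epiDesc, comp_clsE]
  simp only [Category.assoc]

theorem cls_dE {T : A} {x : T ⟶ K.obj.X n} (hx : (K.filX p n).Factors x)
    (hd : (K.filX p' n').Factors (x ≫ K.obj.d n n')) :
    clsE K r p n x (mem_ZSub K hp hn hx hd) ≫ dE K hp hn =
      clsE K r p' n' (x ≫ K.obj.d n n') (mem_ZSub K rfl rfl hd (by
        rw [Category.assoc, d_comp_d, comp_zero]
        exact Subobject.factors_zero)) := by
  have hs : (src K p n p' n').Factors x := (Subobject.inf_factors _).2 ⟨hx, (pullback_factors _ _ _).2 hd⟩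
  have h1 : clsE K r p n x (mem_ZSub K hp hn hx hd) =
      Subobject.factorThru _ x hs ≫ srcπ K hp hn := by
    rw [srcπ, comp_clsE]
    congr 1
    exact (Subobject.factorThru_arrow _ _ _).symm
  rw [h1, Category.assoc, srcπ_dE]
  congr 1
  rw [Subobject.factorThru_arrow]

end Differential

/-- `Z_{r+1} / B_r`. -/
noncomputable def mid (r : ℕ) (p n : ℤ) : A :=
  SpSeq.subquot (K.ZSub (r + 1) p n) (K.BSub r p n) ((BSub_mono K r.le_succ p n).trans (K.BSub_le_ZSub _ p n))

/-- `Z_{r+1} / B_r → Z_r / B_r`. -/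
noncomputable def midι (r : ℕ) (p n : ℤ) : mid K r p n ⟶ K.E r p n :=
  subquotMap _ _ (ZSub_anti K r.le_succ p n) le_rfl

/-- `Z_{r+1} / B_r → Z_{r+1} / B_{r+1}`. -/
noncomputable def midπ (r : ℕ) (p n : ℤ) : mid K r p n ⟶ K.E (r + 1) p n :=
  subquotMap _ _ le_rfl (BSub_mono K r.le_succ p n)

/-- The class of an element in `Z_{r+1} / B_r`. -/
noncomputable def clsM (r : ℕ) (p n : ℤ) {T : A} (x : T ⟶ K.obj.X n) (hx : (K.ZSub (r + 1) p n).Factors x) :
    T ⟶ mid K r p n :=
  cls ((BSub_mono K r.le_succ p n).trans (K.BSub_le_ZSub _ p n)) x hx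

theorem exists_clsM (r : ℕ) (p n : ℤ) {T : A} (γ : T ⟶ mid K r p n) :
    ∃ (T' : A) (π : T' ⟶ T) (_ : Epi π) (x : T' ⟶ K.obj.X n) (hx : (K.ZSub (r + 1) p n).Factors x),
      π ≫ γ = clsM K r p n x hx :=
  exists_cls ((BSub_mono K r.le_succ p n).trans (K.BSub_le_ZSub _ p n)) γ

theorem clsM_eq_zero_iff (r : ℕ) (p n : ℤ) {T : A} (x : T ⟶ K.obj.X n) (hx : (K.ZSub (r + 1) p n).Factors x) :
    clsM K r p n x hx = 0 ↔ (K.BSub r p n).Factors x :=
  cls_eq_zero_iff _ x hx

theorem clsM_midι (r : ℕ) (p n : ℤ) {T : A} (x : T ⟶ K.obj.X n) (hx : (K.ZSub (r + 1) p n).Factors x) :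
    clsM K r p n x hx ≫ midι K r p n = clsE K r p n x (Subobject.factors_of_le x (ZSub_anti K r.le_succ p n) hx) :=
  cls_subquotMap _ _ _ _ x hx

theorem clsM_midπ (r : ℕ) (p n : ℤ) {T : A} (x : T ⟶ K.obj.X n) (hx : (K.ZSub (r + 1) p n).Factors x) :
    clsM K r p n x hx ≫ midπ K r p n = clsE K (r + 1) p n x hx :=
  cls_subquotMap _ _ _ _ x hx

instance (r : ℕ) (p n : ℤ) : Mono (midι K r p n) := by
  refine Preadditive.mono_of_cancel_zero _ fun {T} γ hγ => ?_
  obtain ⟨T', π, hπ, x, hx, e⟩ := exists_clsM K r p n γ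
  have h1 := congrArg (fun t => π ≫ t) hγ
  simp only [comp_zero, reassoc_of% e, clsM_midι, clsE_eq_zero_iff] at h1
  rw [← cancel_epi π, comp_zero, e, clsM_eq_zero_iff]
  exact h1

instance (r : ℕ) (p n : ℤ) : Epi (midπ K r p n) := by
  rw [epi_iff_surjective_up_to_refinements]
  intro T γ
  obtain ⟨T', π, hπ, x, hx, e⟩ := exists_clsE K (r + 1) p n γ
  exact ⟨T', π, hπ, clsM K r p n x hx, by rw [e, clsM_midπ]⟩

section Exact

variable {r : ℕ} {p n p' n' : ℤ} (hp : p + r = p') (hn : n + 1 = n')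

theorem midι_dE : midι K r p n ≫ dE K hp hn = 0 := by
  suffices ∀ {T : A} (γ : T ⟶ mid K r p n), γ ≫ midι K r p n ≫ dE K hp hn = 0 by simpa using this (𝟙 _)
  intro T γ
  obtain ⟨T', π, hπ, x, hx, e⟩ := exists_clsM K r p n γ
  obtain ⟨T'', π', hπ', a, f, ha, had, hf, e'⟩ := ZSub_cases K (show p + ((r + 1 : ℕ) : ℤ) = p' + 1 by omega) hn hx
  have had' := Subobject.factors_of_le _ (K.filX_anti n' (show p' ≤ p' + 1 by omega)) had
  rw [← cancel_epi (π' ≫ π), comp_zero, Category.assoc, reassoc_of% e, ← Category.assoc (clsM K r p n x hx),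
    clsM_midι, ← Category.assoc π', comp_clsE,
    clsE_eq_of_sub K r p n _ (mem_ZSub K hp hn ha had') (by rw [e', add_sub_cancel_left]; exact mem_BSub_of_deeper K hf),
    cls_dE K hp hn ha had', clsE_eq_zero_iff]
  exact mem_BSub_of_deeper K had

theorem exact_midι_dE : (ShortComplex.mk (midι K r p n) (dE K hp hn) (midι_dE K hp hn)).Exact := by
  rw [ShortComplex.exact_iff_exact_up_to_refinements]
  intro T γ hγ
  dsimp at γ hγ
  obtain ⟨T', π, hπ, t, e⟩ := exists_src K hp hn γ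
  have h0 : clsE K r p' n' ((t ≫ (src K p n p' n').arrow) ≫ K.obj.d n n') (mem_ZSub_d K r t) = 0 := by
    rw [← srcπ_dE K hp hn t, ← reassoc_of% e, hγ, comp_zero]
  obtain ⟨T'', π', hπ', z, f, hz, hzd, hf, e'⟩ :=
    BSub_cases K (show p' - (r : ℤ) + 1 = p + 1 by omega) hn ((clsE_eq_zero_iff _ _ _ _ _ _).1 h0)
  let x := π' ≫ t ≫ (src K p n p' n').arrow - z
  have hxp : (K.filX p n).Factors x :=
    factors_sub (Subobject.factors_of_factors_right _ (src_factors K t).1)
      (Subobject.factors_of_le _ (K.filX_anti n (show p ≤ p + 1 by omega)) hz)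
  have hxd : (K.filX (p' + 1) n').Factors (x ≫ K.obj.d n n') := by
    have : x ≫ K.obj.d n n' = f := by
      rw [Preadditive.sub_comp, Category.assoc, e', add_sub_cancel_left]
    rwa [this]
  refine ⟨T'', π' ≫ π, inferInstance,
    clsM K r p n x (mem_ZSub K (show p + ((r + 1 : ℕ) : ℤ) = p' + 1 by omega) hn hxp hxd), ?_⟩
  rw [clsM_midι, Category.assoc, e, srcπ, comp_clsE, comp_clsE]
  refine clsE_eq_of_sub K r p n _ _ ?_
  rw [sub_sub_cancel]
  exact mem_BSub_of_deeper K hz

theorem dE_dE {p'' n'' : ℤ} (hp' : p' + r = p'') (hn' : n' + 1 = n'') : dE K hp hn ≫ dE K hp' hn' = 0 := by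
  suffices ∀ {T : A} (γ : T ⟶ K.E r p n), γ ≫ dE K hp hn ≫ dE K hp' hn' = 0 by simpa using this (𝟙 _)
  intro T γ
  obtain ⟨T', π, hπ, t, e⟩ := exists_src K hp hn γ
  have hdd : (K.filX p'' n'').Factors (((t ≫ (src K p n p' n').arrow) ≫ K.obj.d n n') ≫ K.obj.d n' n'') := by
    rw [Category.assoc, d_comp_d, comp_zero]
    exact Subobject.factors_zero
  rw [← cancel_epi π, comp_zero, reassoc_of% e, ← Category.assoc (srcπ K hp hn), ← Category.assoc t,
    srcπ_dE, cls_dE K hp' hn' (src_factors K t).2 hdd, clsE_eq_zero_iff]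
  simp only [Category.assoc, d_comp_d, comp_zero]
  exact Subobject.factors_zero

/-- The incoming differential, into `Z_{r+1} / B_r`. -/
noncomputable def toMid : K.E r p n ⟶ mid K r p' n' :=
  (exact_midι_dE K (r := r) (p := p') (n := n') rfl rfl).lift (dE K hp hn) (dE_dE K hp hn rfl rfl)

theorem toMid_midι : toMid K hp hn ≫ midι K r p' n' = dE K hp hn :=
  (exact_midι_dE K (r := r) (p := p') (n := n') rfl rfl).lift_f _ _

theorem toMid_midπ : toMid K hp hn ≫ midπ K r p' n' = 0 := by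
  suffices ∀ {T : A} (γ : T ⟶ K.E r p n), γ ≫ toMid K hp hn ≫ midπ K r p' n' = 0 by simpa using this (𝟙 _)
  intro T γ
  obtain ⟨T', π, hπ, t, e⟩ := exists_src K hp hn γ
  have hd := (src_factors K t).2
  have hz : (K.filX (p' + ((r + 1 : ℕ) : ℤ)) (n' + 1)).Factors
      (((t ≫ (src K p n p' n').arrow) ≫ K.obj.d n n') ≫ K.obj.d n' (n' + 1)) := by
    rw [Category.assoc, d_comp_d, comp_zero]
    exact Subobject.factors_zero
  have hm : t ≫ srcπ K hp hn ≫ toMid K hp hn = clsM K r p' n' ((t ≫ (src K p n p' n').arrow) ≫ K.obj.d n n')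
      (mem_ZSub K rfl rfl hd hz) := by
    rw [← cancel_mono (midι K r p' n'), Category.assoc, Category.assoc, toMid_midι, srcπ_dE, clsM_midι]
  rw [← cancel_epi π, comp_zero, reassoc_of% e, reassoc_of% hm, clsM_midπ, clsE_eq_zero_iff]
  simpa only [Category.assoc] using
    mem_BSub K (show p' - ((r + 1 : ℕ) : ℤ) + 1 = p by omega) hn (src_factors K t).1 hd

theorem exact_toMid_midπ : (ShortComplex.mk (toMid K hp hn) (midπ K r p' n') (toMid_midπ K hp hn)).Exact := by
  rw [ShortComplex.exact_iff_exact_up_to_refinements]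
  intro T γ hγ
  dsimp at γ hγ
  obtain ⟨T', π, hπ, x, hx, e⟩ := exists_clsM K r p' n' γ
  have h0 : clsE K (r + 1) p' n' x hx = 0 := by
    rw [← clsM_midπ K r p' n' x hx]
    exact (congrArg (· ≫ midπ K r p' n') e.symm).trans (by rw [Category.assoc, hγ, comp_zero])
  obtain ⟨T'', π', hπ', z, f, hz, hzd, hf, e'⟩ :=
    BSub_cases K (show p' - ((r + 1 : ℕ) : ℤ) + 1 = p by omega) hn ((clsE_eq_zero_iff _ _ _ _ _ _).1 h0)
  refine ⟨T'', π' ≫ π, inferInstance, clsE K r p n z (mem_ZSub K hp hn hz hzd), ?_⟩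
  dsimp only
  rw [← cancel_mono (midι K r p' n')]
  simp only [Category.assoc]
  rw [reassoc_of% e, toMid_midι, cls_dE K hp hn hz hzd,
    clsM_midι, comp_clsE]
  refine clsE_eq_of_sub K r p' n' _ _ ?_
  rw [e', add_sub_cancel_left]
  exact mem_BSub_of_deeper K hf

end Exact

section Infinity

variable (p n : ℤ)

/-- Cycles in `F^p`. -/
noncomputable def cyc : Subobject (K.obj.X n) := K.filX p n ⊓ kernelSubobject (K.obj.d n (n + 1))

theorem cyc_factors {T : A} (t : T ⟶ (cyc K p n : A)) :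
    (K.filX p n).Factors (t ≫ (cyc K p n).arrow) ∧ (t ≫ (cyc K p n).arrow) ≫ K.obj.d n (n + 1) = 0 := by
  obtain ⟨h1, h2⟩ := (Subobject.inf_factors _).1 (Subobject.factors_comp_arrow (P := cyc K p n) t)
  exact ⟨h1, (kernelSubobject_factors_iff _ _).1 h2⟩

theorem ZTop_le : K.BBot p n ≤ K.ZTop p n :=
  sup_le_sup_right (inf_le_inf_left _ (le_kernelSubobject _ _ (imageSubobject_arrow_comp_eq_zero (d_comp_d _ _ _ _)))) _

/-- The cohomology class of a cycle in `F^p`. -/
noncomputable def cycH : (cyc K p n : A) ⟶ K.obj.homology n :=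
  K.obj.liftCycles (cyc K p n).arrow (n + 1) (by simp) (by simpa using (cyc_factors K p n (𝟙 _)).2) ≫ K.obj.homologyπ n

theorem comp_cycH {T : A} (t : T ⟶ (cyc K p n : A)) :
    t ≫ cycH K p n =
      K.obj.liftCycles (t ≫ (cyc K p n).arrow) (n + 1) (by simp) (cyc_factors K p n t).2 ≫ K.obj.homologyπ n := by
  rw [cycH, ← Category.assoc]
  congr 1
  rw [← cancel_mono (K.obj.iCycles n)]
  simp

theorem class_eq {T : A} (z : T ⟶ (K.step p).X n) (hz : z ≫ (K.step p).d n (n + 1) = 0) :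
    (K.step p).liftCycles z (n + 1) (by simp) hz ≫ (K.step p).homologyπ n ≫ homologyMap (K.fil p).arrow n =
      K.obj.liftCycles (z ≫ inc K p n) (n + 1) (by simp) (by rw [Category.assoc, Hom.comm, reassoc_of% hz, zero_comp]) ≫
        K.obj.homologyπ n := by
  rw [homologyπ_naturality, ← Category.assoc, liftCycles_comp_cyclesMap]

theorem factors_cycH : (K.filH p n).Factors (cycH K p n) := by
  obtain ⟨h1, h2⟩ := cyc_factors K p n (𝟙 _)
  rw [Category.id_comp] at h1 h2
  obtain ⟨y, hy⟩ := (filX_factors K _).1 h1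
  have hy' : y ≫ (K.step p).d n (n + 1) = 0 := by
    rw [← cancel_mono (inc K p (n + 1)), zero_comp, Category.assoc, ← Hom.comm, ← Category.assoc, hy, h2]
  have : cycH K p n = ((K.step p).liftCycles y (n + 1) (by simp) hy' ≫ (K.step p).homologyπ n) ≫
      homologyMap (K.fil p).arrow n := by
    rw [Category.assoc, class_eq K p n y hy', cycH]
    congr 2
    exact hy.symm
  rw [this]
  exact imageSubobject_factors_comp_self _ _

/-- Cycles in `F^p` map to the graded piece of the cohomology. -/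
noncomputable def toGr : (cyc K p n : A) ⟶ SpSeq.subquot (K.filH p n) (K.filH (p + 1) n)
    (K.filH_anti n (Int.le_add_one le_rfl)) :=
  cls (K.filH_anti n (Int.le_add_one le_rfl)) (cycH K p n) (factors_cycH K p n)

/-- Cycles in `F^p` map to `Z_∞ / B_∞`. -/
noncomputable def toInf : (cyc K p n : A) ⟶ SpSeq.subquot (K.ZTop p n) (K.BBot p n) (ZTop_le K p n) :=
  cls _ (cyc K p n).arrow (Subobject.sup_factors_of_factors_left (Subobject.factors_self (cyc K p n)))

instance : Epi (toInf K p n) := by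
  rw [epi_iff_surjective_up_to_refinements]
  intro T γ
  obtain ⟨T', π, hπ, x, hx, e⟩ := exists_cls _ γ
  obtain ⟨T'', π', hπ', a, f, ha, hf, e'⟩ := exists_add_of_sup x hx
  refine ⟨T'', π' ≫ π, inferInstance, (cyc K p n).factorThru a ha, ?_⟩
  rw [Category.assoc, e, comp_cls, toInf, comp_cls]
  refine cls_eq_of_sub _ _ _ ?_
  rw [e', Subobject.factorThru_arrow, add_sub_cancel_left]
  exact Subobject.sup_factors_of_factors_right hf

theorem exists_cyc {T : A} (γ : T ⟶ K.obj.homology n) (hγ : (K.filH p n).Factors γ) :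
    ∃ (T' : A) (π : T' ⟶ T) (_ : Epi π) (t : T' ⟶ (cyc K p n : A)), π ≫ γ = t ≫ cycH K p n := by
  obtain ⟨T', π, hπ, h, hh⟩ := image_factors _ _ hγ
  obtain ⟨T'', π', hπ', z, hz, ez⟩ := eq_liftCycles_homologyπ_up_to_refinements (K.step p) h (n + 1) (by simp)
  have hc : (cyc K p n).Factors (z ≫ inc K p n) := (Subobject.inf_factors _).2
    ⟨filX_factors_inc K z, kernel_factors _ (by rw [Category.assoc, Hom.comm, reassoc_of% hz, zero_comp])⟩
  refine ⟨T'', π' ≫ π, inferInstance, (cyc K p n).factorThru _ hc, ?_⟩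
  rw [Category.assoc, hh, reassoc_of% ez, class_eq K p n z hz, comp_cycH]
  congr 2
  exact (Subobject.factorThru_arrow _ _ hc).symm

instance : Epi (toGr K p n) := by
  rw [epi_iff_surjective_up_to_refinements]
  intro T γ
  obtain ⟨T', π, hπ, x, hx, e⟩ := exists_cls _ γ
  obtain ⟨T'', π', hπ', t, ht⟩ := exists_cyc K p n x hx
  refine ⟨T'', π' ≫ π, inferInstance, t, ?_⟩
  rw [Category.assoc, e, comp_cls, toGr, comp_cls]
  congr 1

theorem toGr_eq_zero_iff {T : A} (t : T ⟶ (cyc K p n : A)) : t ≫ toGr K p n = 0 ↔ t ≫ toInf K p n = 0 := by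
  rw [toGr, comp_cls, toInf, comp_cls, cls_eq_zero_iff, cls_eq_zero_iff]
  constructor
  · intro h
    obtain ⟨T', π, hπ, s, hs⟩ := exists_cyc K (p + 1) n _ h
    have h0 : K.obj.liftCycles (π ≫ t ≫ (cyc K p n).arrow - s ≫ (cyc K (p + 1) n).arrow) (n + 1) (by simp)
        (by rw [Preadditive.sub_comp, Category.assoc, (cyc_factors K p n t).2, (cyc_factors K (p + 1) n s).2,
          comp_zero, sub_zero]) ≫ K.obj.homologyπ n = 0 := by
      rw [comp_cycH, comp_cycH, ← Category.assoc, comp_liftCycles] at hs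
      rw [← sub_eq_zero, ← Preadditive.sub_comp] at hs
      refine Eq.trans ?_ hs
      congr 1
      rw [← cancel_mono (K.obj.iCycles n)]
      simp only [liftCycles_i, Preadditive.sub_comp]
    obtain ⟨T'', π', hπ', z, hz⟩ := (liftCycles_comp_homologyπ_eq_zero_iff_up_to_refinements _ (n - 1) n (n + 1)
      (by simp) (by simp) _ _).1 h0
    refine factors_of_epi (π' ≫ π) _ ?_
    have e : (π' ≫ π) ≫ t ≫ (cyc K p n).arrow =
        z ≫ K.obj.d (n - 1) n + π' ≫ s ≫ (cyc K (p + 1) n).arrow := by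
      rw [← hz, Preadditive.comp_sub, sub_add_cancel, Category.assoc]
    rw [e]
    refine Subobject.factors_add _ _ (Subobject.sup_factors_of_factors_left ((Subobject.inf_factors _).2
      ⟨?_, imageSubobject_factors_comp_self _ _⟩))
      (Subobject.sup_factors_of_factors_right (Subobject.factors_of_factors_right _ (cyc_factors K (p + 1) n s).1))
    rw [← hz, Preadditive.comp_sub]
    exact factors_sub (Subobject.factors_of_factors_right _ (Subobject.factors_of_factors_right _ (cyc_factors K p n t).1))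
      (Subobject.factors_of_le _ (K.filX_anti n (show p ≤ p + 1 by omega))
        (Subobject.factors_of_factors_right _ (cyc_factors K (p + 1) n s).1))
  · intro h
    obtain ⟨T', π, hπ, a, f, ha, hf, e⟩ := exists_add_of_sup _ h
    obtain ⟨ha1, ha2⟩ := (Subobject.inf_factors _).1 ha
    obtain ⟨T'', π', hπ', z, hz⟩ := image_factors _ _ ha2
    have hf0 : f ≫ K.obj.d n (n + 1) = 0 := by
      have h3 := congrArg (fun u => π' ≫ u ≫ K.obj.d n (n + 1)) e
      simp only [Category.assoc, Preadditive.add_comp, Preadditive.comp_add, reassoc_of% hz, d_comp_d, comp_zero,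
        zero_add] at h3
      rw [← cancel_epi π', comp_zero, ← h3, ← Category.assoc t, (cyc_factors K p n t).2, comp_zero, comp_zero]
    refine factors_of_epi (π' ≫ π) _ ?_
    have hfc : (cyc K (p + 1) n).Factors f := (Subobject.inf_factors _).2 ⟨hf, kernel_factors _ hf0⟩
    have e2 : (π' ≫ π) ≫ t ≫ cycH K p n = (π' ≫ (cyc K (p + 1) n).factorThru f hfc) ≫ cycH K (p + 1) n := by
      rw [← Category.assoc _ t, comp_cycH, comp_cycH, ← sub_eq_zero, ← Preadditive.sub_comp]
      have h4 : K.obj.liftCycles (z ≫ K.obj.d (n - 1) n) (n + 1) (by simp) (by simp) ≫ K.obj.homologyπ n = 0 :=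
        (liftCycles_comp_homologyπ_eq_zero_iff_up_to_refinements _ (n - 1) n (n + 1) (by simp) (by simp) _ _).2
          ⟨_, 𝟙 _, inferInstance, z, Category.id_comp _⟩
      refine Eq.trans ?_ h4
      congr 1
      rw [← cancel_mono (K.obj.iCycles n), Preadditive.sub_comp, liftCycles_i, liftCycles_i, liftCycles_i, ← hz]
      simp only [Category.assoc, Subobject.factorThru_arrow, e, Preadditive.comp_add, add_sub_cancel_right]
    rw [e2]
    exact Subobject.factors_of_factors_right _ (factors_cycH K (p + 1) n)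

theorem nonempty_gr_iso_inf : Nonempty (SpSeq.subquot (K.filH p n) (K.filH (p + 1) n)
    (K.filH_anti n (Int.le_add_one le_rfl)) ≅ SpSeq.subquot (K.ZTop p n) (K.BBot p n) (ZTop_le K p n)) :=
  ⟨{ hom := Abelian.epiDesc (toGr K p n) (toInf K p n) ((toGr_eq_zero_iff K p n _).1 (kernel.condition _))
     inv := Abelian.epiDesc (toInf K p n) (toGr K p n) ((toGr_eq_zero_iff K p n _).2 (kernel.condition _))
     hom_inv_id := by rw [← cancel_epi (toGr K p n), ← Category.assoc, Abelian.comp_epiDesc, Abelian.comp_epiDesc,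
       Category.comp_id]
     inv_hom_id := by rw [← cancel_epi (toInf K p n), ← Category.assoc, Abelian.comp_epiDesc, Abelian.comp_epiDesc,
       Category.comp_id] }⟩

end Infinity

section Serre

variable (P : ObjectProperty A) [P.IsClosedUnderIsomorphisms]

theorem isZero_bot_coe (X : A) : IsZero ((⊥ : Subobject X) : A) := by
  open ZeroObject in exact (isZero_zero A).of_iso Subobject.botCoeIsoZero

theorem subquot_congr {X : A} {Z Z' B B' : Subobject X} {h : B ≤ Z} (h' : B' ≤ Z') (hZ : Z = Z') (hB : B = B')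
    (hP : P (SpSeq.subquot Z B h)) : P (SpSeq.subquot Z' B' h') := by
  subst hZ hB
  exact hP

variable (h0 : ∃ Z : A, IsZero Z ∧ P Z)
  (hP : ∀ S : ComposableArrows A 4, S.Exact → P (S.obj 0) → P (S.obj 1) → P (S.obj 3) → P (S.obj 4) → P (S.obj 2))

include h0 in
theorem prop_of_isZero {Z : A} (hZ : IsZero Z) : P Z := by
  obtain ⟨Z₀, hZ₀, h⟩ := h0
  exact P.prop_of_iso (hZ₀.iso hZ) h

include hP in
theorem prop_of_exact {a b c d e : A} (f : a ⟶ b) (g : b ⟶ c) (h : c ⟶ d) (k : d ⟶ e) (w₁ : f ≫ g = 0)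
    (w₂ : g ≫ h = 0) (w₃ : h ≫ k = 0) (e₁ : (ShortComplex.mk f g w₁).Exact) (e₂ : (ShortComplex.mk g h w₂).Exact)
    (e₃ : (ShortComplex.mk h k w₃).Exact) (ha : P a) (hb : P b) (hd : P d) (he : P e) : P c :=
  hP (ComposableArrows.mk₄ f g h k)
    (ComposableArrows.exact_of_δ₀ e₁.exact_toComposableArrows
      (ComposableArrows.exact_of_δ₀ e₂.exact_toComposableArrows e₃.exact_toComposableArrows))
    ha hb hd he

include h0 hP in
theorem prop_middle {a c d : A} (f : a ⟶ c) (g : c ⟶ d) (w : f ≫ g = 0) (he : (ShortComplex.mk f g w).Exact)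
    [Mono f] [Epi g] (ha : P a) (hd : P d) : P c := by
  obtain ⟨Z, hZ, hPZ⟩ := h0
  exact prop_of_exact P hP (0 : Z ⟶ a) f g (0 : d ⟶ Z) (by simp) w (by simp)
    ((ShortComplex.exact_iff_mono _ rfl).2 ‹_›) he ((ShortComplex.exact_iff_epi _ rfl).2 ‹_›) hPZ ha hd hPZ

include h0 hP in
theorem prop_mid {r : ℕ} {p n p' n' : ℤ} (hp : p + r = p') (hn : n + 1 = n') (hE : P (K.E r p n))
    (hE' : P (K.E r p' n')) : P (mid K r p n) := by
  obtain ⟨Z, hZ, hPZ⟩ := h0
  exact prop_of_exact P hP (0 : Z ⟶ Z) (0 : Z ⟶ mid K r p n) (midι K r p n) (dE K hp hn) (by simp) (by simp)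
    (midι_dE K hp hn) (ShortComplex.exact_of_isZero_X₂ _ hZ)
    ((ShortComplex.exact_iff_mono _ rfl).2 inferInstance) (exact_midι_dE K hp hn) hPZ hPZ hE hE'

include h0 hP in
theorem prop_succ {r : ℕ} (hr : ∀ p n, P (K.E r p n)) (p n : ℤ) : P (K.E (r + 1) p n) := by
  obtain ⟨Z, hZ, hPZ⟩ := h0
  exact prop_of_exact P hP (toMid K (sub_add_cancel p (r : ℤ)) (sub_add_cancel n 1)) (midπ K r p n)
    (0 : K.E (r + 1) p n ⟶ Z) (0 : Z ⟶ Z) (toMid_midπ K _ _) (by simp) (by simp) (exact_toMid_midπ K _ _)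
    ((ShortComplex.exact_iff_epi _ rfl).2 inferInstance) (ShortComplex.exact_of_isZero_X₂ _ hZ) (hr _ _)
    (prop_mid K P ⟨Z, hZ, hPZ⟩ hP rfl rfl (hr _ _) (hr _ _)) hPZ hPZ

include h0 hP in
theorem prop_page {r : ℕ} (hr : ∀ p n, P (K.E r p n)) (s : ℕ) (hs : r ≤ s) : ∀ p n, P (K.E s p n) := by
  induction s, hs using Nat.le_induction with
  | base => exact hr
  | succ s _ ih => exact prop_succ K P h0 hP ih

include h0 hP in
theorem prop_homology (hK : ∀ n : ℤ, (K.XFil n).IsFinite) {r : ℕ} (hr : ∀ p n, P (K.E r p n)) (n : ℤ) :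
    P (K.obj.homology n) := by
  obtain ⟨-, hfin, -⟩ := Groth.Agent.S6792.result K hK
  obtain ⟨⟨a, ha⟩, ⟨b, hb⟩⟩ := hfin n
  obtain ⟨b₁, hb₁⟩ := (hK (n + 1)).2
  obtain ⟨a₁, ha₁⟩ := (hK (n - 1)).1
  have hgr : ∀ p, P ((K.HFil n).gr p) := fun p => by
    let s : ℕ := r + 1 + (b₁ - p).toNat + (p + 1 - a₁).toNat
    have hz : K.ZSub s p n = K.ZTop p n := by
      have hbot : K.filX (p + (s : ℤ)) (n + 1) = ⊥ :=
        le_bot_iff.1 ((K.filX_anti (n + 1) (show b₁ ≤ p + (s : ℤ) by omega)).trans hb₁.le)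
      refine le_antisymm (sup_le_sup_right (inf_le_inf_left _ (le_of_factors_arrow ?_)) _) (ZTop_le_ZSub K s p n)
      rw [hbot]
      have h2 := (pullback_factors _ _ _).1 (Subobject.factors_self
        ((Subobject.pullback (K.obj.d n (n + 1))).obj (⊥ : Subobject (K.obj.X (n + 1)))))
      rw [Subobject.bot_factors_iff_zero] at h2
      exact kernel_factors _ h2
    have hb : K.BSub s p n = K.BBot p n := by
      have htop : K.filX (p - (s : ℤ) + 1) (n - 1) = ⊤ :=
        top_le_iff.1 (ha₁.ge.trans (K.filX_anti (n - 1) (show p - (s : ℤ) + 1 ≤ a₁ by omega)))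
      haveI := Subobject.isIso_arrow_iff_eq_top _ |>.2 htop
      rw [SpSeq.FilCx.BSub, SpSeq.FilCx.BBot, imageSubobject_iso_comp]
    exact P.prop_of_iso (nonempty_gr_iso_inf K p n).some.symm
      (subquot_congr P _ hz hb (prop_page K P h0 hP hr s (by omega) p n))
  have hfil : ∀ k : ℕ, P (((K.HFil n).fil (b - k) : A)) := by
    intro k
    induction k with
    | zero =>
      refine prop_of_isZero P h0 ?_
      rw [Nat.cast_zero, sub_zero, hb]
      exact isZero_bot_coe _
    | succ k ih =>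
      have hle : b - ((k + 1 : ℕ) : ℤ) + 1 = b - (k : ℤ) := by omega
      rw [← hle] at ih
      exact prop_middle P h0 hP _ (cokernel.π (((K.HFil n).fil (b - ((k + 1 : ℕ) : ℤ) + 1)).ofLE _
          ((K.HFil n).anti (Int.le_add_one le_rfl)))) (cokernel.condition _) (ShortComplex.exact_cokernel _) ih
        (hgr (b - ((k + 1 : ℕ) : ℤ)))
  have htop : (K.HFil n).fil (b - ((b - a).toNat : ℤ)) = ⊤ :=
    top_le_iff.1 (ha.ge.trans ((K.HFil n).anti (show b - ((b - a).toNat : ℤ) ≤ a by omega)))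
  have hh := hfil (b - a).toNat
  rw [htop] at hh
  exact P.prop_of_iso (asIso (⊤ : Subobject (K.obj.homology n)).arrow) hh

end Serre

end Groth.Agent.H6SpSeq
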