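import Groth.Agent.H6SpSeq.Stationary
import Groth.Agent.DiffTame.Basic
import Mathlib

/-!
# Traces along a spectral sequence of modules over `ℂ[X]`
-/

universe u

open CategoryTheory CategoryTheory.Limits

namespace Groth.Agent.H6SpSeq.TraceSS

local notation "CX" => Polynomial ℂ

/-- The underlying complex vector space. -/
noncomputable abbrev V (M : ModuleCat.{u} CX) : ModuleCat.{u} ℂ := (ModuleCat.restrictScalars (algebraMap ℂ CX)).obj M

/-- Multiplication by `X`. -/
noncomputable abbrev φ (M : ModuleCat.{u} CX) : V M →ₗ[ℂ] V M :=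
  ((ModuleCat.restrictScalars (algebraMap ℂ CX)).map ((Polynomial.X : CX) • 𝟙 M)).hom

/-- The trace of `X`. -/
noncomputable abbrev tr (M : ModuleCat.{u} CX) : ℂ := LinearMap.trace ℂ _ (φ M)

/-- Eigenvalues of `X` bounded by `β`. -/
def EigLe (M : ModuleCat.{u} CX) (β : ℝ) : Prop := ∀ μ : ℂ, Module.End.HasEigenvalue (φ M) μ → ‖μ‖ ≤ β

/-- A morphism as a linear map of vector spaces. -/
noncomputable abbrev lin {M N : ModuleCat.{u} CX} (f : M ⟶ N) : V M →ₗ[ℂ] V N :=
  ((ModuleCat.restrictScalars (algebraMap ℂ CX)).map f).hom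

theorem lin_comm {M N : ModuleCat.{u} CX} (f : M ⟶ N) : φ N ∘ₗ lin f = lin f ∘ₗ φ M :=
  LinearMap.ext fun x => (f.hom.map_smul (Polynomial.X : CX) x).symm

theorem lin_inj {M N : ModuleCat.{u} CX} (f : M ⟶ N) [Mono f] : Function.Injective (lin f) :=
  (ModuleCat.mono_iff_injective f).1 inferInstance

theorem lin_surj {M N : ModuleCat.{u} CX} (f : M ⟶ N) [Epi f] : Function.Surjective (lin f) :=
  (ModuleCat.epi_iff_surjective f).1 inferInstance

section MonoEpi

variable {M N : ModuleCat.{u} CX} (f : M ⟶ N)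

theorem finite_of_mono [Mono f] [Module.Finite ℂ (V N)] : Module.Finite ℂ (V M) :=
  Module.Finite.of_injective (lin f) (lin_inj f)

theorem finite_of_epi [Epi f] [Module.Finite ℂ (V M)] : Module.Finite ℂ (V N) :=
  Module.Finite.of_surjective (lin f) (lin_surj f)

theorem finrank_le_of_mono [Mono f] [Module.Finite ℂ (V N)] : Module.finrank ℂ (V M) ≤ Module.finrank ℂ (V N) :=
  LinearMap.finrank_le_finrank_of_injective (lin_inj f)

theorem finrank_le_of_epi [Epi f] [Module.Finite ℂ (V M)] : Module.finrank ℂ (V N) ≤ Module.finrank ℂ (V M) := by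
  have h := LinearMap.finrank_range_le (lin f)
  rwa [LinearMap.range_eq_top.2 (lin_surj f), finrank_top] at h

theorem eigLe_of_mono [Mono f] {β : ℝ} (h : EigLe N β) : EigLe M β := fun μ hμ => by
  obtain ⟨x, hx⟩ := hμ.exists_hasEigenvector
  refine h μ (Module.End.hasEigenvalue_of_hasEigenvector (x := lin f x) ⟨?_, ?_⟩)
  · rw [Module.End.mem_eigenspace_iff, ← map_smul, ← hx.apply_eq_smul]
    exact LinearMap.congr_fun (lin_comm f) x
  · exact fun h0 => hx.2 (lin_inj f (h0.trans (map_zero _).symm))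

theorem eigLe_of_epi [Epi f] [Module.Finite ℂ (V M)] {β : ℝ} (h : EigLe M β) : EigLe N β := fun μ hμ => by
  haveI := finite_of_epi f
  refine h μ ?_
  by_contra hc
  have hinj : Function.Injective (φ M - μ • (1 : Module.End ℂ (V M))) := by
    rw [← LinearMap.ker_eq_bot]
    by_contra hb
    apply hc
    rw [Module.End.hasEigenvalue_iff, Module.End.eigenspace_def]
    exact hb
  have hsurj : Function.Surjective (φ M - μ • (1 : Module.End ℂ (V M))) := LinearMap.injective_iff_surjective.1 hinj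
  obtain ⟨x, hx⟩ := hμ.exists_hasEigenvector
  have hN : Function.Surjective (φ N - μ • (1 : Module.End ℂ (V N))) := fun y => by
    obtain ⟨y', rfl⟩ := lin_surj f y
    obtain ⟨z, rfl⟩ := hsurj y'
    exact ⟨lin f z, by
      rw [LinearMap.sub_apply, LinearMap.sub_apply, map_sub, LinearMap.smul_apply, LinearMap.smul_apply, map_smul]
      congr 1
      exact LinearMap.congr_fun (lin_comm f) z⟩
  refine hx.2 ((LinearMap.injective_iff_surjective.2 hN) ?_)
  rw [map_zero, LinearMap.sub_apply, LinearMap.smul_apply, Module.End.one_apply, hx.apply_eq_smul, sub_self]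

end MonoEpi

theorem norm_tr_le (M : ModuleCat.{u} CX) [Module.Finite ℂ (V M)] {β : ℝ} (h : EigLe M β) :
    ‖tr M‖ ≤ Module.finrank ℂ (V M) * β := by
  have hsp : (φ M).charpoly.Splits := IsAlgClosed.splits _
  rw [show tr M = _ from Module.End.trace_eq_sum_roots_charpoly_of_splits hsp]
  refine (norm_multiset_sum_le _).trans ?_
  refine (Multiset.sum_le_card_nsmul _ β fun x hx => ?_).trans (le_of_eq ?_)
  · obtain ⟨μ, hμ, rfl⟩ := Multiset.mem_map.1 hx
    exact h μ ((Module.End.hasEigenvalue_iff_isRoot_charpoly _ μ).2 (Polynomial.mem_roots'.1 hμ).2)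
  · rw [Multiset.card_map, ← hsp.natDegree_eq_card_roots, LinearMap.charpoly_natDegree, nsmul_eq_mul]

theorem finite_of_exact {S : ShortComplex (ModuleCat.{u} CX)} (hS : S.ShortExact) [Module.Finite ℂ (V S.X₁)]
    [Module.Finite ℂ (V S.X₃)] : Module.Finite ℂ (V S.X₂) := by
  have hr := hS.exact.moduleCat_range_eq_ker
  haveI := hS.epi_g
  exact Module.Finite.of_exact (f := lin S.f) (g := lin S.g)
    (fun x => ⟨fun hx => (SetLike.ext_iff.1 hr x).2 hx, fun hx => (SetLike.ext_iff.1 hr x).1 hx⟩) (lin_surj S.g)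

theorem tr_of_exact {S : ShortComplex (ModuleCat.{u} CX)} (hS : S.ShortExact) [Module.Finite ℂ (V S.X₂)] :
    tr S.X₂ = tr S.X₁ + tr S.X₃ := by
  haveI := hS.mono_f
  haveI := hS.epi_g
  haveI := finite_of_mono S.f
  haveI := finite_of_epi S.g
  have hr := hS.exact.moduleCat_range_eq_ker
  refine DiffTame.trace_of_exact (lin S.f) (lin S.g) (lin_inj S.f) (lin_surj S.g) ?_ (lin_comm S.f) (lin_comm S.g)
  ext x
  exact ⟨fun hx => (SetLike.ext_iff.1 hr x).1 hx, fun hx => (SetLike.ext_iff.1 hr x).2 hx⟩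

theorem tr_eq_zero (M : ModuleCat.{u} CX) (h : IsZero M) : tr M = 0 := by
  haveI := ModuleCat.subsingleton_of_isZero h
  haveI : Subsingleton (V M) := ‹_›
  change LinearMap.trace ℂ _ (φ M) = 0
  rw [show φ M = 0 from LinearMap.ext fun x => Subsingleton.elim _ _, map_zero]

theorem tr_iso {M N : ModuleCat.{u} CX} (e : M ≅ N) [Module.Finite ℂ (V M)] : tr M = tr N := by
  let l : V M ≃ₗ[ℂ] V N := ((ModuleCat.restrictScalars (algebraMap ℂ CX)).mapIso e).toLinearEquiv
  have : φ N = l.conj (φ M) := LinearMap.ext fun y => by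
    obtain ⟨x, rfl⟩ := l.surjective y
    rw [LinearEquiv.conj_apply_apply, LinearEquiv.symm_apply_apply]
    exact LinearMap.congr_fun (lin_comm e.hom) x
  rw [tr, tr, this, LinearMap.trace_conj']

/-- The image of a morphism. -/
noncomputable abbrev img {M N : ModuleCat.{u} CX} (f : M ⟶ N) : ModuleCat.{u} CX := Abelian.image f

section Homology

variable (S : ShortComplex (ModuleCat.{u} CX)) [Module.Finite ℂ (V S.X₂)]

theorem finite_homology : Module.Finite ℂ (V S.homology) :=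
  haveI := finite_of_mono S.iCycles
  finite_of_epi S.homologyπ

theorem eigLe_homology {β : ℝ} (h : EigLe S.X₂ β) : EigLe S.homology β :=
  haveI := finite_of_mono S.iCycles
  eigLe_of_epi S.homologyπ (eigLe_of_mono S.iCycles h)

theorem finrank_homology : Module.finrank ℂ (V S.homology) ≤ Module.finrank ℂ (V S.X₂) :=
  haveI := finite_of_mono S.iCycles
  (finrank_le_of_epi S.homologyπ).trans (finrank_le_of_mono S.iCycles)

theorem tr_homology : tr S.homology = tr S.X₂ - tr (Abelian.image S.f) - tr (Abelian.image S.g) := by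
  haveI := finite_of_mono S.iCycles
  haveI hi : Module.Finite ℂ (V (Abelian.image S.f)) := finite_of_mono (Abelian.image.ι S.f)
  -- cycles inside the middle term
  have h1 : (ShortComplex.mk S.iCycles (Abelian.factorThruImage S.g)
      (by rw [← cancel_mono (Abelian.image.ι S.g), Category.assoc, Abelian.image.fac, zero_comp, S.iCycles_g])).ShortExact := by
    refine ShortComplex.ShortExact.mk' ?_ inferInstance inferInstance
    rw [ShortComplex.exact_iff_exact_up_to_refinements]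
    intro T x hx
    dsimp at x hx
    have hx' : x ≫ S.g = 0 := by rw [← Abelian.image.fac S.g, reassoc_of% hx, zero_comp]
    exact ⟨T, 𝟙 T, inferInstance, S.liftCycles x hx', by simp⟩
  -- boundaries inside the cycles
  let j : Abelian.image S.f ⟶ S.cycles := S.liftCycles (Abelian.image.ι S.f) (by
    rw [← cancel_epi (Abelian.factorThruImage S.f), ← Category.assoc, Abelian.image.fac, S.zero, comp_zero])
  haveI : Mono j := mono_of_mono_fac (S.liftCycles_i _ _)
  have hj : Abelian.factorThruImage S.f ≫ j = S.toCycles := by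
    rw [← cancel_mono S.iCycles, Category.assoc, ShortComplex.liftCycles_i, Abelian.image.fac, S.toCycles_i]
  have h2 : (ShortComplex.mk j S.homologyπ
      (by rw [← cancel_epi (Abelian.factorThruImage S.f), reassoc_of% hj, S.toCycles_comp_homologyπ, comp_zero])).ShortExact := by
    refine ShortComplex.ShortExact.mk' ?_ inferInstance inferInstance
    rw [ShortComplex.exact_iff_exact_up_to_refinements]
    intro T x hx
    dsimp at x hx
    obtain ⟨T', π, hπ, y, hy⟩ :=
      (ShortComplex.exact_of_g_is_cokernel (ShortComplex.mk _ _ S.toCycles_comp_homologyπ) S.homologyIsCokernel).exact_up_to_refinements x hx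
    exact ⟨T', π, hπ, y ≫ Abelian.factorThruImage S.f, hy.trans ((Category.assoc _ _ _).trans (congrArg (y ≫ ·) hj)).symm⟩
  have e1 : tr S.X₂ = tr S.cycles + tr (Abelian.image S.g) := tr_of_exact h1
  have e2 : tr S.cycles = tr (Abelian.image S.f) + tr S.homology := tr_of_exact h2
  linear_combination -e1 - e2

end Homology

section Page

variable (E : E₂CohomologicalSpectralSequence (ModuleCat.{u} CX)) (r : ℤ) (hr : 2 ≤ r) (N : ℕ) (a c : ℕ → ℝ) (b d : ℕ → ℕ)

/-- The boundedness condition on a page. -/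
def Bdd : Prop :=
  (∀ pq : ℤ × ℤ, pq.1 < 0 ∨ pq.2 < 0 → IsZero ((E.page r hr).X pq)) ∧
    (∀ pq : ℤ × ℤ, Module.Finite ℂ (V ((E.page r hr).X pq))) ∧
    (∀ p q : ℕ, N < q → IsZero ((E.page r hr).X ((p : ℤ), (q : ℤ)))) ∧
    (∀ (p q : ℕ) (μ : ℂ), Module.End.HasEigenvalue (φ ((E.page r hr).X ((p : ℤ), (q : ℤ)))) μ → ‖μ‖ ≤ a q * c p) ∧
    (∀ p q : ℕ, Module.finrank ℂ (V ((E.page r hr).X ((p : ℤ), (q : ℤ)))) ≤ b q * d p)

variable {E r hr N a c b d} (h : Bdd E r hr N a c b d)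

theorem isZero_next (k : ℤ) (hk : 2 ≤ k) (pq : ℤ × ℤ) (hz : IsZero ((E.page k hk).X pq)) :
    IsZero ((E.page (k + 1) (Int.le_add_one hk)).X pq) :=
  (S8355.result E k hk pq hz).1 (k + 1) (by omega)

include h in
theorem bdd_succ : Bdd E (r + 1) (Int.le_add_one hr) N a c b d := by
  obtain ⟨h1, h2, h3, h4, h5⟩ := h
  haveI := fun pq => h2 pq
  haveI : ∀ pq, Module.Finite ℂ (V ((E.page r hr).sc pq).X₂) := fun pq => h2 pq
  let e : ∀ pq, ((E.page r hr).sc pq).homology ≅ (E.page (r + 1) (Int.le_add_one hr)).X pq := fun pq =>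
    E.iso r (r + 1) pq rfl hr
  have hfin : ∀ pq, Module.Finite ℂ (V ((E.page (r + 1) (Int.le_add_one hr)).X pq)) := fun pq =>
    haveI := finite_homology ((E.page r hr).sc pq)
    finite_of_epi (e pq).hom
  refine ⟨fun pq hpq => isZero_next r hr pq (h1 pq hpq), hfin, fun p q hq => isZero_next r hr _ (h3 p q hq),
    fun p q μ hμ => ?_, fun p q => ?_⟩
  · exact eigLe_of_mono (e _).inv (eigLe_homology ((E.page r hr).sc ((p : ℤ), (q : ℤ))) (h4 p q)) μ hμ
  · haveI := finite_homology ((E.page r hr).sc ((p : ℤ), (q : ℤ)))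
    exact ((finrank_le_of_mono (e _).inv).trans (finrank_homology _)).trans (h5 p q)

/-- The sign at a position. -/
noncomputable def sgn (x : ℤ × ℤ) : ℂ := (-1 : ℂ) ^ (x.1 + x.2)

theorem sgn_nat (p q : ℕ) : sgn ((p : ℤ), (q : ℤ)) = (-1 : ℂ) ^ (p + q) := by
  rw [sgn, ← Nat.cast_add, zpow_natCast]

theorem norm_sgn (x : ℤ × ℤ) : ‖sgn x‖ = 1 := by
  rw [sgn, norm_zpow, norm_neg, norm_one, one_zpow]

theorem sgn_sub (x : ℤ × ℤ) (r : ℤ) : sgn (x - (r, 1 - r)) = -sgn x := by
  rw [sgn, sgn, show (x - (r, 1 - r)).1 + (x - (r, 1 - r)).2 = x.1 + x.2 - 1 by simp only [Prod.fst_sub, Prod.snd_sub]; ring,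
    zpow_sub_one₀ (by norm_num : (-1 : ℂ) ≠ 0)]
  simp

include h in
/-- Families dominated by the page are summable. -/
theorem summable_of_le (hsum : Summable fun p : ℕ => c p * (d p : ℝ)) (ha : ∀ q, 0 ≤ a q) (hc : ∀ p, 0 ≤ c p)
    (f : ℕ × ℕ → ℂ) (hz : ∀ p q : ℕ, IsZero ((E.page r hr).X ((p : ℤ), (q : ℤ))) → f (p, q) = 0)
    (hf : ∀ p q : ℕ, ‖f (p, q)‖ ≤ (Module.finrank ℂ (V ((E.page r hr).X ((p : ℤ), (q : ℤ)))) : ℝ) * (a q * c p)) :
    Summable f := by
  have hw : Summable (fun q : ℕ => if q ≤ N then a q * (b q : ℝ) else 0) :=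
    summable_of_ne_finset_zero (s := Finset.range (N + 1)) fun q hq => by
      rw [Finset.mem_range] at hq
      simp [show ¬ q ≤ N by omega]
  refine Summable.of_norm_bounded (hsum.mul_of_nonneg hw (fun p => mul_nonneg (hc p) (Nat.cast_nonneg _))
    (fun q => by
      split_ifs
      · exact mul_nonneg (ha q) (Nat.cast_nonneg _)
      · exact le_rfl)) fun ⟨p, q⟩ => ?_
  by_cases hq : q ≤ N
  · rw [if_pos hq]
    refine (hf p q).trans (le_of_le_of_eq (mul_le_mul_of_nonneg_right (Nat.cast_le.2 (h.2.2.2.2 p q))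
      (mul_nonneg (ha q) (hc p))) ?_)
    push_cast
    ring
  · rw [hz p q (h.2.2.1 p q (by omega)), norm_zero, if_neg hq, mul_zero]

/-- Positions in the quadrant. -/
abbrev incl (x : ℕ × ℕ) : ℤ × ℤ := ((x.1 : ℤ), (x.2 : ℤ))

theorem incl_inj : Function.Injective incl := fun _ _ h =>
  Prod.ext (Nat.cast_injective (congrArg Prod.fst h)) (Nat.cast_injective (congrArg Prod.snd h))

theorem mem_range_incl {x : ℤ × ℤ} (h : ¬ (x.1 < 0 ∨ x.2 < 0)) : x ∈ Set.range incl :=
  ⟨(x.1.toNat, x.2.toNat), Prod.ext (by simp; omega) (by simp; omega)⟩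

include h in
theorem summable_int (hsum : Summable fun p : ℕ => c p * (d p : ℝ)) (ha : ∀ q, 0 ≤ a q) (hc : ∀ p, 0 ≤ c p)
    (g : ℤ × ℤ → ℂ) (hz : ∀ x, IsZero ((E.page r hr).X x) → g x = 0)
    (hg : ∀ p q : ℕ, ‖g ((p : ℤ), (q : ℤ))‖ ≤
      (Module.finrank ℂ (V ((E.page r hr).X ((p : ℤ), (q : ℤ)))) : ℝ) * (a q * c p)) : Summable g :=
  (incl_inj.summable_iff fun x hx => hz x (h.1 x (by_contra fun hn => hx (mem_range_incl hn)))).1
    (summable_of_le h hsum ha hc (g ∘ incl) (fun p q => hz _) hg)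

include h in
theorem tsum_incl (g : ℤ × ℤ → ℂ) (hz : ∀ x, IsZero ((E.page r hr).X x) → g x = 0) :
    ∑' x : ℕ × ℕ, g (incl x) = ∑' x, g x :=
  incl_inj.tsum_eq fun x hx => by_contra fun hn => hx (hz x (h.1 x (by_contra fun hn' => hn (mem_range_incl hn'))))

include h in
theorem tsum_succ (hsum : Summable fun p : ℕ => c p * (d p : ℝ)) (ha : ∀ q, 0 ≤ a q) (hc : ∀ p, 0 ≤ c p) :
    ∑' pq : ℕ × ℕ, (-1 : ℂ) ^ (pq.1 + pq.2) * tr ((E.page (r + 1) (Int.le_add_one hr)).X ((pq.1 : ℤ), (pq.2 : ℤ))) =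
      ∑' pq : ℕ × ℕ, (-1 : ℂ) ^ (pq.1 + pq.2) * tr ((E.page r hr).X ((pq.1 : ℤ), (pq.2 : ℤ))) := by
  haveI := fun pq => h.2.1 pq
  haveI : ∀ pq, Module.Finite ℂ (V ((E.page r hr).sc pq).X₂) := fun pq => h.2.1 pq
  let δ : ℤ × ℤ := (r, 1 - r)
  let β : ℤ × ℤ → ℂ := fun x => tr (Abelian.image ((E.page r hr).d x (x + δ)))
  have hstep : ∀ x, tr ((E.page (r + 1) (Int.le_add_one hr)).X x) = tr ((E.page r hr).X x) - β (x - δ) - β x := fun x => by
    haveI := finite_homology ((E.page r hr).sc x)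
    rw [← tr_iso (M := ((E.page r hr).sc x).homology) (E.iso r (r + 1) x rfl hr), tr_homology]
    change tr ((E.page r hr).X x) - tr (Abelian.image ((E.page r hr).d ((ComplexShape.up' (⟨r, 1 - r⟩ : ℤ × ℤ)).prev x) x)) -
      tr (Abelian.image ((E.page r hr).d x ((ComplexShape.up' (⟨r, 1 - r⟩ : ℤ × ℤ)).next x))) = _
    rw [show (ComplexShape.up' (⟨r, 1 - r⟩ : ℤ × ℤ)).prev x = x - δ from ComplexShape.prev_eq' _ (by simp [δ]),
      show (ComplexShape.up' (⟨r, 1 - r⟩ : ℤ × ℤ)).next x = x + δ from ComplexShape.next_eq' _ (by simp [δ])]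
    have : tr (Abelian.image ((E.page r hr).d (x - δ) x)) = β (x - δ) := by
      change _ = tr (Abelian.image ((E.page r hr).d (x - δ) (x - δ + δ)))
      rw [sub_add_cancel]
    rw [this]
  have hzt : ∀ x, IsZero ((E.page r hr).X x) → tr ((E.page r hr).X x) = 0 := fun x hx => tr_eq_zero _ hx
  have hzβ : ∀ x, IsZero ((E.page r hr).X x) → β x = 0 := fun x hx => tr_eq_zero _
    (IsZero.of_epi_eq_zero (Abelian.factorThruImage ((E.page r hr).d x (x + δ))) (hx.eq_of_src _ _))
  let t : ℤ × ℤ → ℂ := fun x => sgn x * tr ((E.page r hr).X x)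
  let g : ℤ × ℤ → ℂ := fun x => sgn x * β x
  have ht : Summable t := summable_int h hsum ha hc t (fun x hx => by simp only [t, hzt x hx, mul_zero]) fun p q => by
    rw [norm_mul, norm_sgn, one_mul]
    exact norm_tr_le _ (h.2.2.2.1 p q)
  have hg : Summable g := summable_int h hsum ha hc g (fun x hx => by simp only [g, hzβ x hx, mul_zero]) fun p q => by
    rw [norm_mul, norm_sgn, one_mul]
    haveI := finite_of_epi (Abelian.factorThruImage ((E.page r hr).d ((p : ℤ), (q : ℤ)) (((p : ℤ), (q : ℤ)) + δ)))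
    refine (norm_tr_le _ (eigLe_of_epi (Abelian.factorThruImage _) (h.2.2.2.1 p q))).trans ?_
    exact mul_le_mul_of_nonneg_right (Nat.cast_le.2 (finrank_le_of_epi (Abelian.factorThruImage _)))
      (mul_nonneg (ha q) (hc p))
  have hg' : Summable (g ∘ Equiv.subRight δ) := (Equiv.subRight δ).summable_iff.2 hg
  have hL : ∀ x : ℕ × ℕ, (-1 : ℂ) ^ (x.1 + x.2) * tr ((E.page (r + 1) (Int.le_add_one hr)).X (incl x)) =
      (fun y => t y + g (y - δ) - g y) (incl x) := fun x => by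
    simp only [t, g, δ, sgn_sub, incl, sgn_nat, hstep]
    ring
  have hR : ∀ x : ℕ × ℕ, (-1 : ℂ) ^ (x.1 + x.2) * tr ((E.page r hr).X (incl x)) = t (incl x) := fun x => by
    simp only [t, incl, sgn_nat]
  rw [tsum_congr hL, tsum_congr hR, tsum_incl h t (fun x hx => by simp only [t, hzt x hx, mul_zero]),
    tsum_incl h (fun y => t y + g (y - δ) - g y) (fun x hx => by
      have h1 := hstep x
      rw [tr_eq_zero _ (isZero_next r hr x hx), hzt x hx] at h1
      simp only [t, g, sgn_sub, hzt x hx, δ] at h1 ⊢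
      linear_combination -(sgn x) * h1)]
  have e1 := (ht.add hg').tsum_sub hg
  rw [ht.tsum_add hg'] at e1
  simp only [Function.comp_apply, Equiv.subRight_apply] at e1
  have e2 : ∑' x, g (x - δ) = ∑' x, g x := (Equiv.subRight δ).tsum_eq g
  rw [e1, e2]
  ring

include h in
theorem stationaryAt_of_le (R : ℤ) (hR : 2 ≤ R) (hbdd : ∀ k (hk : 2 ≤ k), R ≤ k → Bdd E k hk N a c b d)
    (hN : (N : ℤ) + 2 ≤ R) (pq : ℤ × ℤ) : SpSeq.StationaryAt E pq R := by
  refine ⟨hR, fun k hk hRk => ?_⟩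
  obtain ⟨k1, k2, k3, -, -⟩ := hbdd k hk hRk
  have hz : ∀ x : ℤ × ℤ, (x.2 < 0 ∨ (N : ℤ) < x.2) → IsZero ((E.page k hk).X x) := fun x hx => by
    rcases hx with hx | hx
    · exact k1 x (Or.inr hx)
    · by_cases hx1 : x.1 < 0
      · exact k1 x (Or.inl hx1)
      · obtain ⟨p, hp⟩ : ∃ p : ℕ, x.1 = p := ⟨x.1.toNat, by omega⟩
        obtain ⟨q, hq⟩ : ∃ q : ℕ, x.2 = q := ⟨x.2.toNat, by omega⟩
        rw [show x = ((p : ℤ), (q : ℤ)) from Prod.ext hp hq]
        exact k3 p q (by omega)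
  constructor
  · by_cases hq : pq.2 < 0 ∨ (N : ℤ) < pq.2
    · exact (hz pq hq).eq_of_tgt _ _
    · exact (hz (pq - (k, 1 - k)) (by right; simp only [Prod.snd_sub]; omega)).eq_of_src _ _
  · by_cases hq : pq.2 < 0 ∨ (N : ℤ) < pq.2
    · exact (hz pq hq).eq_of_src _ _
    · exact (hz (pq + (k, 1 - k)) (by left; simp only [Prod.snd_add]; omega)).eq_of_tgt _ _

end Page

theorem abutment_tsum (E : E₂CohomologicalSpectralSequence (ModuleCat.{u} CX)) (H : ℤ → ModuleCat.{u} CX)
    (abut : SpSeq.Abutment E H) (hfin : ∀ n, abut.IsFinite n) (N : ℕ) (a c : ℕ → ℝ) (b d : ℕ → ℕ)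
    (ha : ∀ q, 0 ≤ a q) (hc : ∀ p, 0 ≤ c p) (h : Bdd E 2 le_rfl N a c b d)
    (hsum : Summable fun p : ℕ => c p * (d p : ℝ)) :
    Summable (fun n : ℕ => ‖tr (H n)‖) ∧
    ∑' n : ℕ, (-1 : ℂ) ^ n * tr (H n) =
      ∑' pq : ℕ × ℕ, (-1 : ℂ) ^ (pq.1 + pq.2) * tr ((E.page 2 le_rfl).X ((pq.1 : ℤ), (pq.2 : ℤ))) := by
  have hall : ∀ k (hk : 2 ≤ k), Bdd E k hk N a c b d ∧
      ∑' pq : ℕ × ℕ, (-1 : ℂ) ^ (pq.1 + pq.2) * tr ((E.page k hk).X ((pq.1 : ℤ), (pq.2 : ℤ))) =
      ∑' pq : ℕ × ℕ, (-1 : ℂ) ^ (pq.1 + pq.2) * tr ((E.page 2 le_rfl).X ((pq.1 : ℤ), (pq.2 : ℤ))) := by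
    intro k hk
    induction k, hk using Int.le_induction with
    | base => exact ⟨h, rfl⟩
    | succ k hk ih => exact ⟨bdd_succ ih.1, (tsum_succ ih.1 hsum ha hc).trans ih.2⟩
  let R : ℤ := (N : ℤ) + 2
  have hR : 2 ≤ R := by simp [R]
  obtain ⟨hB, hT⟩ := hall R hR
  have hst := stationaryAt_of_le h R hR (fun k hk _ => (hall k hk).1) le_rfl
  haveI := fun x => hB.2.1 x
  -- the graded pieces
  have hgr : ∀ n p : ℤ, Nonempty ((E.page R hR).X (p, n - p) ≅ SpSeq.grPiece (abut.fil n) (abut.anti n) p) := by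
    intro n p
    obtain ⟨e₁⟩ := nonempty_pageIso (hst (p, n - p)) (max R (abut.rk (p, n - p))) (le_max_left _ _)
    obtain ⟨e₂⟩ := nonempty_pageIso (abut.stat (p, n - p)) (max R (abut.rk (p, n - p))) (le_max_right _ _)
    have aux : ∀ m, m = n → Nonempty (SpSeq.grPiece (abut.fil m) (abut.anti m) p ≅
        SpSeq.grPiece (abut.fil n) (abut.anti n) p) := by
      rintro m rfl
      exact ⟨Iso.refl _⟩
    obtain ⟨e₃⟩ := aux (p + (n - p)) (by ring)
    exact ⟨e₁ ≪≫ e₂.symm ≪≫ abut.β (p, n - p) ≪≫ e₃⟩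
  -- traces on the abutment
  have hH : ∀ n : ℕ, tr (H n) = ∑ x ∈ Finset.HasAntidiagonal.antidiagonal n, tr ((E.page R hR).X (incl x)) := by
    intro n
    let F := abut.filObj n
    have hz : ∀ p : ℤ, (p < 0 ∨ (n : ℤ) < p) → IsZero (F.gr p) := fun p hp =>
      (hB.1 (p, (n : ℤ) - p) (by simp only; omega)).of_iso (hgr n p).some.symm
    obtain ⟨⟨u₁, hu₁⟩, u₂, hu₂⟩ := hfin n
    have htop : F.fil 0 = ⊤ := by
      rcases le_total u₁ 0 with h' | h'
      · rw [S14355.fil_const F u₁ 0 h' fun i _ hi => hz i (Or.inl hi)]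
        exact hu₁
      · exact top_le_iff.1 (hu₁.symm.le.trans (F.anti h'))
    have hbot : F.fil ((n : ℤ) + 1) = ⊥ := by
      rcases le_total ((n : ℤ) + 1) u₂ with h' | h'
      · rw [← S14355.fil_const F ((n : ℤ) + 1) u₂ h' fun i hi _ => hz i (Or.inr (by omega))]
        exact hu₂
      · exact le_bot_iff.1 ((F.anti h').trans hu₂.le)
    have hfil : ∀ k : ℕ, Module.Finite ℂ (V (F.step ((n : ℤ) + 1 - k))) ∧
        (k ≤ n + 1 → tr (F.step ((n : ℤ) + 1 - k)) =
          ∑ p ∈ Finset.Ico (n + 1 - k) (n + 1), tr ((E.page R hR).X ((p : ℤ), (n : ℤ) - p))) := by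
      intro k
      induction k with
      | zero =>
        have hzero : IsZero (F.step ((n : ℤ) + 1 - (0 : ℕ))) := IsZero.of_mono_eq_zero _
          (arrow_eq_zero_of_eq_bot (S := F.fil _) (by rw [Nat.cast_zero, sub_zero]; exact hbot))
        haveI := ModuleCat.subsingleton_of_isZero hzero
        haveI : Subsingleton (V (F.step ((n : ℤ) + 1 - (0 : ℕ)))) := ‹_›
        exact ⟨inferInstance, fun _ => by rw [tr_eq_zero _ hzero]; simp⟩
      | succ k ih =>
        obtain ⟨hf, heq⟩ := ih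
        set p : ℤ := (n : ℤ) + 1 - ((k + 1 : ℕ) : ℤ) with hp
        rw [show (n : ℤ) + 1 - (k : ℤ) = p + 1 by omega] at hf heq
        obtain ⟨e⟩ := hgr n p
        haveI : Module.Finite ℂ (V (F.gr p)) := finite_of_epi e.hom
        have hS : (ShortComplex.mk (F.stepLE (Int.le_add_one (le_refl p))) (cokernel.π _) (cokernel.condition _)).ShortExact :=
          ShortComplex.ShortExact.mk' (ShortComplex.exact_cokernel _) inferInstance inferInstance
        haveI : Module.Finite ℂ (V (cokernel (F.stepLE (Int.le_add_one (le_refl p))))) := ‹Module.Finite ℂ (V (F.gr p))›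
        haveI hf2 : Module.Finite ℂ (V (F.step p)) := finite_of_exact hS
        refine ⟨hf2, fun hk => ?_⟩
        rw [show tr (F.step p) = tr (F.step (p + 1)) + tr (F.gr p) from tr_of_exact hS, heq (by omega),
          show tr (F.gr p) = tr ((E.page R hR).X (p, (n : ℤ) - p)) from (tr_iso e).symm]
        rw [show n + 1 - (k + 1) = n - k by omega, ← Finset.insert_Ico_succ_left_eq_Ico (show n - k < n + 1 by omega),
          Finset.sum_insert (by simp), Nat.succ_eq_succ, Nat.succ_eq_add_one, show n - k + 1 = n + 1 - k by omega, add_comm]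
        congr 3
        · exact Prod.ext (by omega) (by omega)
    obtain ⟨hf0, h0⟩ := hfil (n + 1)
    have h00 : (n : ℤ) + 1 - ((n + 1 : ℕ) : ℤ) = 0 := by omega
    rw [h00] at hf0 h0
    haveI : IsIso (F.fil 0).arrow := (Subobject.isIso_arrow_iff_eq_top _).2 htop
    refine (tr_iso (M := F.step 0) (asIso (F.fil 0).arrow)).symm.trans ?_
    rw [h0 le_rfl, Nat.sub_self, ← Finset.range_eq_Ico,
      Finset.Nat.sum_antidiagonal_eq_sum_range_succ_mk (fun x => tr ((E.page R hR).X (incl x)))]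
    refine Finset.sum_congr rfl fun p hp => ?_
    rw [Finset.mem_range] at hp
    rw [show incl (p, n - p) = ((p : ℤ), (n : ℤ) - p) from Prod.ext rfl (Nat.cast_sub (by omega))]
  -- summation
  let t : ℕ × ℕ → ℂ := fun x => tr ((E.page R hR).X (incl x))
  have ht : Summable t := summable_of_le hB hsum ha hc t (fun p q hz => tr_eq_zero _ hz) fun p q =>
    norm_tr_le _ (hB.2.2.2.1 p q)
  have hts : Summable fun x : ℕ × ℕ => (-1 : ℂ) ^ (x.1 + x.2) * t x :=
    summable_norm_iff.1 ((summable_norm_iff.2 ht).congr fun x => by simp)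
  refine ⟨?_, ?_⟩
  · have h1 : Summable (fun x : Σ n : ℕ, Finset.HasAntidiagonal.antidiagonal n => ‖t x.2.1‖) :=
      Finset.HasAntidiagonal.sigmaAntidiagonalEquivProd.summable_iff.2 (summable_norm_iff.2 ht)
    refine Summable.of_nonneg_of_le (fun n => norm_nonneg _) (fun n => ?_) h1.sigma
    rw [hH, tsum_fintype, Finset.sum_coe_sort (Finset.HasAntidiagonal.antidiagonal n) (fun x => ‖t x‖)]
    exact norm_sum_le _ _
  · refine Eq.trans ?_ hT
    have h1 : Summable (fun x : Σ n : ℕ, Finset.HasAntidiagonal.antidiagonal n => (-1 : ℂ) ^ (x.2.1.1 + x.2.1.2) * t x.2.1) :=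
      Finset.HasAntidiagonal.sigmaAntidiagonalEquivProd.summable_iff.2 hts
    refine Eq.trans ?_ (Finset.HasAntidiagonal.sigmaAntidiagonalEquivProd.tsum_eq
      (fun x : ℕ × ℕ => (-1 : ℂ) ^ (x.1 + x.2) * t x))
    refine Eq.trans ?_ h1.tsum_sigma.symm
    refine tsum_congr fun n => ?_
    rw [hH, tsum_fintype, Finset.mul_sum,
      Finset.sum_coe_sort (Finset.HasAntidiagonal.antidiagonal n) (fun x => (-1 : ℂ) ^ (x.1 + x.2) * t x)]
    exact Finset.sum_congr rfl fun x hx => by rw [Finset.HasAntidiagonal.mem_antidiagonal.1 hx]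

end Groth.Agent.H6SpSeq.TraceSS
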